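import Groth.Agent.L15.CartanRel.Engine
import Groth.Prelude.Def_W4sga3xiixivxvCartan
import Mathlib.RingTheory.LocalRing.Module
import Mathlib.RingTheory.OrzechProperty
import Mathlib.LinearAlgebra.TensorProduct.RightExactness

/-!
Fibrewise study of `ad a` on `L ⧸ H`: the criterion for `engel A a` to be a relative Cartan subalgebra and
uniqueness of the relative Cartan subalgebra through a quasi-regular element.
-/

set_option autoImplicit false
set_option linter.style.haveILetI false
universe u

noncomputable section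

open TensorProduct Module LieSubalgebra

namespace Groth.L15.CartanRel

attribute [local instance 100] LieRing.ofAssociativeRing

variable {A : Type u} [CommRing A]

theorem surjective_of_fibres {M N : Type u} [AddCommGroup M] [Module A M] [AddCommGroup N] [Module A N]
    [Module.Finite A N] (f : M →ₗ[A] N)
    (h : ∀ p : PrimeSpectrum A, Function.Surjective (f.baseChange p.asIdeal.ResidueField)) :
    Function.Surjective f := by
  rw [← LinearMap.range_eq_top, ← Submodule.Quotient.subsingleton_iff]
  rw [← Module.support_eq_empty_iff (R := A), Set.eq_empty_iff_forall_notMem]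
  intro p hp
  rw [Module.mem_support_iff_nontrivial_residueField_tensorProduct] at hp
  obtain ⟨z, hz⟩ := exists_ne (0 : p.asIdeal.ResidueField ⊗[A] (N ⧸ LinearMap.range f))
  obtain ⟨y, rfl⟩ := LinearMap.lTensor_surjective p.asIdeal.ResidueField (Submodule.mkQ_surjective _) z
  obtain ⟨x, rfl⟩ := h p y
  refine hz ?_
  induction x using TensorProduct.induction_on with
  | zero => simp
  | add a b ha hb => simp_all
  | tmul c m => simp [(Submodule.Quotient.mk_eq_zero _).2 (LinearMap.mem_range_self f m)]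

theorem isNilpotent_of_fibres {M : Type u} [AddCommGroup M] [Module A M] [Module.Finite A M]
    [Module.Projective A M] (f : End A M)
    (h : ∀ p : PrimeSpectrum A, IsNilpotent (f.baseChange p.asIdeal.ResidueField)) : IsNilpotent f := by
  obtain ⟨n, r, i, -, -, hri⟩ := Module.Finite.exists_comp_eq_id_of_projective A M
  have h' : ∀ w, r (i w) = w := fun w => LinearMap.congr_fun hri w
  set G : End A (Fin n → A) := i ∘ₗ f ∘ₗ r with hG
  have hpow : ∀ k, G ^ (k + 1) = i ∘ₗ (f ^ (k + 1)) ∘ₗ r := fun k => by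
    induction k with
    | zero => simp [hG]
    | succ k ih => rw [pow_succ G, ih, pow_succ f (k + 1)]; ext v; simp [hG, h']
  set Mx := LinearMap.toMatrixAlgEquiv' G with hMx
  suffices hn : IsNilpotent Mx by
    obtain ⟨k, hk⟩ := (IsNilpotent.map hn (LinearMap.toMatrixAlgEquiv' (R := A) (n := Fin n)).symm)
    rw [hMx, AlgEquiv.symm_apply_apply] at hk
    refine ⟨k + 1, LinearMap.ext fun w => ?_⟩
    have := LinearMap.congr_fun (hpow k) (i w)
    rw [pow_succ, hk] at this
    have := congrArg r this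
    simpa [h'] using this.symm
  set q := Mx.charpoly - Polynomial.X ^ n with hq
  have hqn : IsNilpotent q := Polynomial.isNilpotent_iff.2 fun j => by
    rw [← mem_nilradical, nilradical_eq_sInf, Submodule.mem_sInf]
    intro I hI
    have hI' : Ideal.IsPrime I := hI
    let p : PrimeSpectrum A := ⟨I, hI'⟩
    let φ := algebraMap A p.asIdeal.ResidueField
    have hK : IsNilpotent (Mx.map φ) := by
      obtain ⟨k, hk⟩ := h p
      refine ⟨k + 1, ?_⟩
      rw [← RingHom.mapMatrix_apply, ← map_pow, hMx, ← map_pow, hpow]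
      ext a b
      have : (f ^ (k + 1)).baseChange p.asIdeal.ResidueField = 0 := by
        rw [LinearMap.baseChange_pow, pow_succ, hk, zero_mul]
      have h1 := LinearMap.congr_fun (congrArg (fun g => i.baseChange p.asIdeal.ResidueField ∘ₗ g) this)
        ((1 : p.asIdeal.ResidueField) ⊗ₜ[A] r (Pi.single b 1))
      have h2 := congrArg (fun z => (TensorProduct.piScalarRight A p.asIdeal.ResidueField _ (Fin n)) z a) h1
      simpa [φ, Algebra.algebraMap_eq_smul_one] using h2
    have h1 := (Matrix.isNilpotent_charpoly_sub_pow_of_isNilpotent hK).eq_zero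
    rw [Fintype.card_fin, Matrix.charpoly_map, ← Polynomial.map_X φ, ← Polynomial.map_pow, ← Polynomial.map_sub,
      ← hq] at h1
    have h2 := congrArg (fun g => Polynomial.coeff g j) h1
    simp only [Polynomial.coeff_map, Polynomial.coeff_zero] at h2
    exact Ideal.algebraMap_residueField_eq_zero.1 h2
  have hMn : IsNilpotent (Mx ^ n) := by
    have := IsNilpotent.map hqn (Polynomial.aeval Mx)
    rw [hq, map_sub, Matrix.aeval_self_charpoly, zero_sub, map_pow, Polynomial.aeval_X] at this
    exact isNilpotent_neg_iff.1 this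
  obtain ⟨k, hk⟩ := hMn
  exact ⟨n * k, by rw [pow_mul, hk]⟩

variable {L : Type u} [LieRing L] [LieAlgebra A L] (H : LieSubalgebra A L)
variable (K : Type u) [Field K] [Algebra A K]

/-- The map of the fibre of `H` to the fibre of `L`. -/
abbrev subK : K ⊗[A] H →ₗ[K] K ⊗[A] L := LinearMap.baseChange K (H.toSubmodule.subtype : H →ₗ[A] L)

theorem subtype_baseChange_lie (x y : K ⊗[A] H) :
    subK H K ⁅x, y⁆ = ⁅subK H K x, subK H K y⁆ := by
  refine preserves_lie_of_closure (subK H K).toAddMonoidHom
    (S := {z | ∃ a l, z = a ⊗ₜ[A] l}) (fun z => ?_) ?_ x y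
  · induction z using TensorProduct.induction_on with
    | zero => exact zero_mem _
    | add a b ha hb => exact add_mem ha hb
    | tmul a m => exact AddSubmonoid.subset_closure ⟨a, m, rfl⟩
  · rintro _ ⟨a, m, rfl⟩ _ ⟨b, n, rfl⟩
    simp [LieAlgebra.ExtendScalars.bracket_tmul]
    rfl

/-- The fibre of `H` as a Lie subalgebra. -/
def fibreSub : LieSubalgebra K (K ⊗[A] L) :=
  { (H.toSubmodule).baseChange K with
    lie_mem' := by
      rintro _ _ ⟨x, rfl⟩ ⟨y, rfl⟩
      let x' : K ⊗[A] H := x
      let y' : K ⊗[A] H := y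
      exact ⟨⁅x', y'⁆, subtype_baseChange_lie H K x' y'⟩ }

theorem mem_fibreSub {z : K ⊗[A] L} : z ∈ fibreSub H K ↔ z ∈ H.toSubmodule.baseChange K := Iff.rfl

theorem tmul_mem_fibreSub (c : K) {y : L} (hy : y ∈ H) : c ⊗ₜ[A] y ∈ fibreSub H K :=
  Submodule.tmul_mem_baseChange_of_mem c hy

theorem isNilpotent_fibreSub (h : LieRing.IsNilpotent (K ⊗[A] H)) : LieRing.IsNilpotent (fibreSub H K) := by
  let f : (K ⊗[A] H) →ₗ⁅ℤ⁆ fibreSub H K :=
    { toFun := fun x => ⟨subK H K x, ⟨x, rfl⟩⟩
      map_add' := fun a b => Subtype.ext (map_add _ _ _)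
      map_smul' := fun c a => Subtype.ext (map_zsmul _ _ _)
      map_lie' := fun {a b} => Subtype.ext (subtype_baseChange_lie H K a b) }
  refine Function.Surjective.lieAlgebra_isNilpotent (f := f) ?_
  rintro ⟨_, x, rfl⟩
  exact ⟨x, rfl⟩

theorem mkQ_baseChange_eq_zero_iff (z : K ⊗[A] L) :
    H.toSubmodule.mkQ.baseChange K z = 0 ↔ z ∈ fibreSub H K := by
  have he := lTensor_exact K (LinearMap.exact_subtype_mkQ H.toSubmodule) (Submodule.mkQ_surjective _)
  exact he z

section Action

variable {H} {a : L} (ha : a ∈ H)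

/-- `ad a` on `L ⧸ H`. -/
def adQ : End A (L ⧸ H.toSubmodule) :=
  H.toSubmodule.mapQ H.toSubmodule (LieAlgebra.ad A L a) fun _ hy => H.lie_mem ha hy

theorem adQ_pow_mk (n : ℕ) (y : L) :
    (adQ ha ^ n) (H.toSubmodule.mkQ y) = H.toSubmodule.mkQ ((LieAlgebra.ad A L a ^ n) y) := by
  induction n generalizing y with
  | zero => rfl
  | succ n ih => rw [pow_succ, Module.End.mul_apply, pow_succ, Module.End.mul_apply, ← ih]; rfl

theorem adQ_baseChange_pow_mk (n : ℕ) (z : K ⊗[A] L) :
    ((adQ ha).baseChange K ^ n) (H.toSubmodule.mkQ.baseChange K z) =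
      H.toSubmodule.mkQ.baseChange K ((LieAlgebra.ad K (K ⊗[A] L) ((1 : K) ⊗ₜ[A] a) ^ n) z) := by
  rw [show LieAlgebra.ad K (K ⊗[A] L) ((1 : K) ⊗ₜ[A] a) = (LieAlgebra.ad A L a).baseChange K from
    LieModule.toEnd_baseChange (R := A) (A := K) (L := L) (M := L) a, ← LinearMap.baseChange_pow,
    ← LinearMap.baseChange_pow]
  induction z using TensorProduct.induction_on with
  | zero => simp
  | add x y hx hy => simp [hx, hy]
  | tmul c y => rw [LinearMap.baseChange_tmul, LinearMap.baseChange_tmul, LinearMap.baseChange_tmul,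
      LinearMap.baseChange_tmul, adQ_pow_mk]

/-- If the fibre of `H` is the whole Engel subalgebra, `ad a` is bijective on the fibre of `L ⧸ H`. -/
theorem adQ_baseChange_bijective [Module.Finite A L]
    (h : engel K ((1 : K) ⊗ₜ[A] a) ≤ fibreSub H K) (h' : fibreSub H K ≤ engel K ((1 : K) ⊗ₜ[A] a)) :
    Function.Bijective ((adQ ha).baseChange K) := by
  have hinj : Function.Injective ((adQ ha).baseChange K) := by
    refine (injective_iff_map_eq_zero _).2 fun w hw => ?_
    obtain ⟨z, rfl⟩ := LinearMap.lTensor_surjective K (Submodule.mkQ_surjective H.toSubmodule) w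
    have h1 := adQ_baseChange_pow_mk K ha 1 z
    rw [pow_one, pow_one] at h1
    have h2 : ⁅(1 : K) ⊗ₜ[A] a, z⁆ ∈ engel K ((1 : K) ⊗ₜ[A] a) := by
      have hz : ⁅(1 : K) ⊗ₜ[A] a, z⁆ ∈ fibreSub H K :=
        (mkQ_baseChange_eq_zero_iff H K _).1 (h1.symm.trans hw)
      exact h' hz
    obtain ⟨n, hn⟩ := (mem_engel_iff _ _ _).1 h2
    refine (mkQ_baseChange_eq_zero_iff H K z).2 (h ((mem_engel_iff _ _ _).2 ⟨n + 1, ?_⟩))
    rw [pow_succ]
    exact hn
  exact ⟨hinj, LinearMap.injective_iff_surjective.1 hinj⟩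

/-- If `ad a` is injective on the fibre of `L ⧸ H`, the Engel subalgebra is in the fibre of `H`. -/
theorem engel_le_fibreSub (h : Function.Injective ((adQ ha).baseChange K)) :
    engel K ((1 : K) ⊗ₜ[A] a) ≤ fibreSub H K := by
  intro z hz
  obtain ⟨n, hn⟩ := (mem_engel_iff _ _ _).1 hz
  have h1 := adQ_baseChange_pow_mk K ha n z
  rw [hn, map_zero, Module.End.pow_apply] at h1
  exact (mkQ_baseChange_eq_zero_iff H K z).1 (h.iterate n (h1.trans (by rw [← Module.End.pow_apply, map_zero])))

end Action

end Groth.L15.CartanRel
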