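import Groth.Agent.L15.CartanRel.Field
import Mathlib.LinearAlgebra.Matrix.Charpoly.Coeff
import Mathlib.LinearAlgebra.Charpoly.ToMatrix
import Mathlib.Algebra.MvPolynomial.Funext
import Mathlib.RingTheory.Finiteness.Projective

/-!
The characteristic polynomial of `ad` of a finite projective Lie algebra, uniformly in the base change:
a projective presentation `A^n ↠ L` with a section turns `ad y` into an endomorphism of `B^n` which differs
from it by an identity block.
-/

set_option autoImplicit false
set_option linter.style.haveILetI false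
universe u

noncomputable section

open TensorProduct Module Polynomial

namespace Groth.L15.CartanRel

attribute [local instance 100] LieRing.ofAssociativeRing

section Splice

variable {R V W : Type*} [CommRing R] [AddCommGroup V] [Module R V] [AddCommGroup W] [Module R W]
  (r : V →ₗ[R] W) (i : W →ₗ[R] V)

/-- `f` on `W`, the identity on the kernel of `r`. -/
def splice (f : End R W) : End R V := i ∘ₗ f ∘ₗ r + (1 - i ∘ₗ r)

variable {r i}

theorem r_splice (h : r ∘ₗ i = LinearMap.id) (f : End R W) (v : V) : r (splice r i f v) = f (r v) := by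
  have h' : ∀ w, r (i w) = w := fun w => LinearMap.congr_fun h w
  simp [splice, h']

theorem splice_i (h : r ∘ₗ i = LinearMap.id) (f : End R W) (w : W) : splice r i f (i w) = i (f w) := by
  have h' : ∀ w, r (i w) = w := fun w => LinearMap.congr_fun h w
  simp [splice, h']

theorem r_aeval_splice (h : r ∘ₗ i = LinearMap.id) (f : End R W) (q : R[X]) (v : V) :
    r (aeval (splice r i f) q v) = aeval f q (r v) := by
  induction q using Polynomial.induction_on generalizing v with
  | C a => simp [Polynomial.aeval_C, Module.algebraMap_end_apply]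
  | add p q hp hq => simp [hp, hq]
  | monomial n a ih =>
    rw [pow_succ, ← mul_assoc]
    simp only [map_mul, Module.End.mul_apply, aeval_X] at ih ⊢
    rw [ih, r_splice h]

theorem splice_pow_i (h : r ∘ₗ i = LinearMap.id) (f : End R W) (k : ℕ) (w : W) :
    (splice r i f ^ k) (i w) = i ((f ^ k) w) := by
  induction k generalizing w with
  | zero => rfl
  | succ k ih => rw [pow_succ, Module.End.mul_apply, splice_i h, ih, pow_succ, Module.End.mul_apply]

theorem splice_baseChange (f : End R W) (B : Type*) [CommRing B] [Algebra R B] :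
    (splice r i f).baseChange B = splice (r.baseChange B) (i.baseChange B) (f.baseChange B) := by
  refine TensorProduct.AlgebraTensorModule.curry_injective (LinearMap.ext_ring (LinearMap.ext fun v => ?_))
  simp [splice, tmul_add, tmul_sub]

theorem baseChange_section (h : r ∘ₗ i = LinearMap.id) (B : Type*) [CommRing B] [Algebra R B] :
    r.baseChange B ∘ₗ i.baseChange B = LinearMap.id := by
  rw [← LinearMap.baseChange_comp, h, LinearMap.baseChange_id]

end Splice

section SpliceField

variable {K V W : Type u} [Field K] [AddCommGroup V] [Module K V] [Module.Finite K V]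
  [AddCommGroup W] [Module K W] [Module.Finite K W] {r : V →ₗ[K] W} {i : W →ₗ[K] V}

theorem natTrailingDegree_splice (h : r ∘ₗ i = LinearMap.id) (f : End K W) :
    (splice r i f).charpoly.natTrailingDegree = f.charpoly.natTrailingDegree := by
  have h' : ∀ w, r (i w) = w := fun w => LinearMap.congr_fun h w
  let e : V ≃ₗ[K] W × LinearMap.ker r :=
    { toFun := fun v => (r v, ⟨v - i (r v), by simp [h']⟩)
      map_add' := fun a b => by ext <;> simp; abel
      map_smul' := fun c a => by ext <;> simp [smul_sub]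
      invFun := fun p => i p.1 + p.2.1
      left_inv := fun v => by simp
      right_inv := fun p => by
        have := LinearMap.mem_ker.1 p.2.2
        ext <;> simp [h', this] }
  have he : e.conj (splice r i f) = f.prodMap 1 := by
    refine LinearMap.ext fun p => ?_
    have hp := LinearMap.mem_ker.1 p.2.2
    have hs : e.symm p = i p.1 + p.2.1 := rfl
    rw [LinearEquiv.conj_apply_apply, hs]
    show (r (splice r i f (i p.1 + p.2.1)), (⟨_, _⟩ : LinearMap.ker r)) = _
    refine Prod.ext ?_ (Subtype.ext ?_)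
    · simp [r_splice h, h', hp]
    · simp [r_splice h, h', hp, splice]
  rw [← e.charpoly_conj (splice r i f), he, LinearMap.charpoly_prodMap, LinearMap.charpoly_one,
    Polynomial.natTrailingDegree_mul f.charpoly_monic.ne_zero (pow_ne_zero _ (by simpa using X_sub_C_ne_zero (1 : K)))]
  have : ((X - 1 : K[X]) ^ finrank K (LinearMap.ker r)).natTrailingDegree = 0 :=
    Polynomial.natTrailingDegree_eq_zero.2 (Or.inr (by simp [Polynomial.coeff_zero_eq_eval_zero]))
  simp [this]

end SpliceField

section Congr

variable {K : Type u} [Field K] {M N : Type u} [LieRing M] [LieAlgebra K M] [Module.Finite K M]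
  [LieRing N] [LieAlgebra K N] [Module.Finite K N] (e : M ≃ₗ[K] N) (he : ∀ x y, e ⁅x, y⁆ = ⁅e x, e y⁆)

include he in
theorem natTrailingDegree_congr (x : M) :
    (LieAlgebra.ad K N (e x)).charpoly.natTrailingDegree = (LieAlgebra.ad K M x).charpoly.natTrailingDegree := by
  have : LieAlgebra.ad K N (e x) = e.conj (LieAlgebra.ad K M x) := by
    ext y; simp [LinearEquiv.conj_apply_apply, he]
  rw [this, LinearEquiv.charpoly_conj]

include he in
theorem rank_congr_of_infinite [Infinite K] : LieAlgebra.rank K M = LieAlgebra.rank K N := by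
  refine le_antisymm ?_ ?_
  · obtain ⟨y, hy⟩ := LieAlgebra.exists_isRegular (R := K) (L := N)
    obtain ⟨x, rfl⟩ := e.surjective y
    rw [← (LieAlgebra.isRegular_iff_natTrailingDegree_charpoly_eq_rank K _).1 hy, natTrailingDegree_congr e he]
    exact LieAlgebra.rank_le_natTrailingDegree_charpoly_ad K x
  · obtain ⟨x, hx⟩ := LieAlgebra.exists_isRegular (R := K) (L := M)
    rw [← (LieAlgebra.isRegular_iff_natTrailingDegree_charpoly_eq_rank K _).1 hx, ← natTrailingDegree_congr e he]
    exact LieAlgebra.rank_le_natTrailingDegree_charpoly_ad K (e x)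

include he in
theorem rank_congr : LieAlgebra.rank K M = LieAlgebra.rank K N := by
  rw [← rank_baseChange (AlgebraicClosure K), ← rank_baseChange (M := N) (AlgebraicClosure K)]
  refine rank_congr_of_infinite (e.baseChange K (AlgebraicClosure K) M N) fun x y => ?_
  induction x using TensorProduct.induction_on with
  | zero => simp
  | add a b ha hb => simp [ha, hb]
  | tmul a m =>
    induction y using TensorProduct.induction_on with
    | zero => simp
    | add c d hc hd => simp [hc, hd]
    | tmul b n => simp [he]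

include he in
theorem isRegular_congr (x : M) : LieAlgebra.IsRegular K (e x) ↔ LieAlgebra.IsRegular K x := by
  rw [LieAlgebra.isRegular_iff_natTrailingDegree_charpoly_eq_rank,
    LieAlgebra.isRegular_iff_natTrailingDegree_charpoly_eq_rank, natTrailingDegree_congr e he, rank_congr e he]

end Congr

theorem preserves_lie_of_closure {M N : Type*} [LieRing M] [LieRing N] (e : M →+ N) {S : Set M}
    (hS : ∀ x : M, x ∈ AddSubmonoid.closure S) (h : ∀ x ∈ S, ∀ y ∈ S, e ⁅x, y⁆ = ⁅e x, e y⁆) (x y : M) :
    e ⁅x, y⁆ = ⁅e x, e y⁆ := by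
  induction hS x, hS y using AddSubmonoid.closure_induction₂ with
  | mem a b ha hb => exact h a ha b hb
  | zero_left => simp
  | zero_right => simp
  | add_left a b c _ _ _ h1 h2 => simp [h1, h2]
  | add_right a b c _ _ _ h1 h2 => simp [h1, h2]

theorem cancel_lie (R B C : Type u) [CommRing R] [CommRing B] [CommRing C] [Algebra R B] [Algebra R C]
    [Algebra B C] [IsScalarTower R B C] (L : Type u) [LieRing L] [LieAlgebra R L] (x y : C ⊗[B] (B ⊗[R] L)) :
    TensorProduct.AlgebraTensorModule.cancelBaseChange R B C C L ⁅x, y⁆ =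
      ⁅TensorProduct.AlgebraTensorModule.cancelBaseChange R B C C L x,
        TensorProduct.AlgebraTensorModule.cancelBaseChange R B C C L y⁆ := by
  refine preserves_lie_of_closure (TensorProduct.AlgebraTensorModule.cancelBaseChange R B C C L).toLinearMap.toAddMonoidHom
    (S := {z | ∃ a b l, z = a ⊗ₜ[B] (b ⊗ₜ[R] l)}) (fun z => ?_) ?_ x y
  · induction z using TensorProduct.induction_on with
    | zero => exact zero_mem _
    | add a b ha hb => exact add_mem ha hb
    | tmul a m =>
      induction m using TensorProduct.induction_on with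
      | zero => rw [tmul_zero]; exact zero_mem _
      | add c d hc hd => rw [tmul_add]; exact add_mem hc hd
      | tmul b l => exact AddSubmonoid.subset_closure ⟨a, b, l, rfl⟩
  · rintro _ ⟨a, b, l, rfl⟩ _ ⟨a', b', l', rfl⟩
    simp only [LinearMap.toAddMonoidHom_coe, LinearEquiv.coe_coe, LieAlgebra.ExtendScalars.bracket_tmul,
      TensorProduct.AlgebraTensorModule.cancelBaseChange_tmul, Algebra.smul_def]
    congr 1
    rw [map_mul]
    ring

variable (A : Type u) [CommRing A] (L : Type u) [LieRing L] [LieAlgebra A L]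

/-- A presentation of `L` as a direct summand of a finite free module. -/
structure Pres where
  n : ℕ
  r : (Fin n → A) →ₗ[A] L
  i : L →ₗ[A] (Fin n → A)
  hri : r ∘ₗ i = LinearMap.id

theorem exists_pres [Module.Finite A L] [Module.Projective A L] : Nonempty (Pres A L) :=
  let ⟨n, f, g, _, _, h⟩ := Module.Finite.exists_comp_eq_id_of_projective A L
  ⟨⟨n, f, g, h⟩⟩

variable {A L} (Q : Pres A L)

namespace Pres

variable (B : Type u) [CommRing B] [Algebra A B]

/-- The point of `B ⊗ L` with coordinates `c`. -/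
def pt (c : Fin Q.n → B) : B ⊗[A] L := ∑ l, c l ⊗ₜ[A] Q.r (Pi.single l 1)

theorem eq_sum (a : L) : a = ∑ l, Q.i a l • Q.r (Pi.single l 1) := by
  conv_lhs => rw [← LinearMap.id_apply (R := A) a, ← Q.hri, LinearMap.comp_apply, ← Finset.univ_sum_single (Q.i a)]
  rw [map_sum]
  refine Finset.sum_congr rfl fun l _ => ?_
  rw [← map_smul, ← Pi.single_smul, smul_eq_mul, mul_one]

theorem one_tmul_eq_pt (a : L) :
    (1 : B) ⊗ₜ[A] a = Q.pt B fun l => algebraMap A B (Q.i a l) := by
  conv_lhs => rw [Q.eq_sum a]
  rw [tmul_sum]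
  refine Finset.sum_congr rfl fun l _ => ?_
  rw [← smul_tmul, ← Algebra.algebraMap_eq_smul_one]

theorem exists_pt (y : B ⊗[A] L) : ∃ c, Q.pt B c = y := by
  induction y using TensorProduct.induction_on with
  | zero => exact ⟨0, by simp [pt]⟩
  | add a b ha hb =>
    obtain ⟨c, rfl⟩ := ha
    obtain ⟨d, rfl⟩ := hb
    exact ⟨c + d, by simp [pt, add_tmul, Finset.sum_add_distrib]⟩
  | tmul b a =>
    refine ⟨fun l => b * algebraMap A B (Q.i a l), ?_⟩
    conv_rhs => rw [Q.eq_sum a]
    rw [tmul_sum]
    refine Finset.sum_congr rfl fun l _ => ?_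
    rw [← smul_tmul, Algebra.smul_def, mul_comm]

theorem ad_pt (c : Fin Q.n → B) :
    LieAlgebra.ad B (B ⊗[A] L) (Q.pt B c) = ∑ l, c l • (LieAlgebra.ad A L (Q.r (Pi.single l 1))).baseChange B := by
  rw [pt, map_sum]
  refine Finset.sum_congr rfl fun l _ => ?_
  rw [show c l ⊗ₜ[A] Q.r (Pi.single l 1) = c l • ((1 : B) ⊗ₜ[A] Q.r (Pi.single l 1)) by
    rw [smul_tmul', smul_eq_mul, mul_one], map_smul]
  exact congrArg (c l • ·) (LieModule.toEnd_baseChange (R := A) (A := B) (L := L) (M := L) _)

/-- The universal matrix. -/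
def U : Matrix (Fin Q.n) (Fin Q.n) (MvPolynomial (Fin Q.n) A) :=
  (∑ l, (MvPolynomial.X l : MvPolynomial (Fin Q.n) A) •
      (LinearMap.toMatrix' (Q.i ∘ₗ LieAlgebra.ad A L (Q.r (Pi.single l 1)) ∘ₗ Q.r)).map MvPolynomial.C) +
    (LinearMap.toMatrix' (1 - Q.i ∘ₗ Q.r)).map MvPolynomial.C

/-- The universal characteristic polynomial. -/
def P : (MvPolynomial (Fin Q.n) A)[X] := Q.U.charpoly

theorem charpoly_splice (c : Fin Q.n → B) :
    (splice (Q.r.baseChange B) (Q.i.baseChange B) (LieAlgebra.ad B (B ⊗[A] L) (Q.pt B c))).charpoly =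
      Q.P.map (MvPolynomial.eval₂Hom (algebraMap A B) c) := by
  let b := Algebra.TensorProduct.basis B (Pi.basisFun A (Fin Q.n))
  have hM : ∀ f : End A (Fin Q.n → A),
      LinearMap.toMatrix b b (f.baseChange B) = (LinearMap.toMatrix' f).map (algebraMap A B) := fun f => by
    rw [LinearMap.toMatrix_baseChange, LinearMap.toMatrix_eq_toMatrix']
  have hG : splice (Q.r.baseChange B) (Q.i.baseChange B) (LieAlgebra.ad B (B ⊗[A] L) (Q.pt B c)) =
      ∑ l, c l • (Q.i ∘ₗ LieAlgebra.ad A L (Q.r (Pi.single l 1)) ∘ₗ Q.r).baseChange B +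
        (1 - Q.i ∘ₗ Q.r).baseChange B := by
    rw [splice, Q.ad_pt B c]
    congr 1
    · refine LinearMap.ext fun v => ?_
      simp [LinearMap.sum_apply, LinearMap.baseChange_comp]
    · rw [LinearMap.baseChange_sub, LinearMap.baseChange_comp, LinearMap.baseChange_one]
  rw [← LinearMap.charpoly_toMatrix _ b, hG, P, ← Matrix.charpoly_map]
  congr 1
  rw [map_add, map_sum, U]
  simp only [map_smul, hM]
  ext j k
  simp [Matrix.sum_apply]

theorem aeval_eq_zero (c : Fin Q.n → B) :
    aeval (LieAlgebra.ad B (B ⊗[A] L) (Q.pt B c)) (Q.P.map (MvPolynomial.eval₂Hom (algebraMap A B) c)) = 0 := by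
  refine LinearMap.ext fun y => ?_
  have h := baseChange_section Q.hri B
  rw [← LinearMap.id_apply (R := B) y, ← h, LinearMap.comp_apply, ← r_aeval_splice h, ← Q.charpoly_splice B c,
    LinearMap.aeval_self_charpoly]
  simp

theorem monic_P : Q.P.Monic := Matrix.charpoly_monic _

variable (K : Type u) [Field K] [Algebra A K]

theorem natTrailingDegree_ad [Module.Finite A L] (c : Fin Q.n → K) :
    (LieAlgebra.ad K (K ⊗[A] L) (Q.pt K c)).charpoly.natTrailingDegree =
      (Q.P.map (MvPolynomial.eval₂Hom (algebraMap A K) c)).natTrailingDegree := by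
  rw [← Q.charpoly_splice K c, natTrailingDegree_splice (baseChange_section Q.hri K)]

/-- The rank of `K ⊗ L`, read off the universal characteristic polynomial. -/
def rk : ℕ := (Q.P.map (MvPolynomial.map (algebraMap A K))).natTrailingDegree

theorem rk_le : Q.rk K ≤ Q.n :=
  haveI : Nontrivial A := (algebraMap A K).domain_nontrivial
  (Polynomial.natTrailingDegree_le_natDegree _).trans
    ((Polynomial.natDegree_map_le).trans (by rw [P, Matrix.charpoly_natDegree_eq_dim, Fintype.card_fin]))

theorem map_eval (c : Fin Q.n → K) :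
    Q.P.map (MvPolynomial.eval₂Hom (algebraMap A K) c) =
      (Q.P.map (MvPolynomial.map (algebraMap A K))).map (MvPolynomial.eval c) := by
  rw [Polynomial.map_map]
  congr 1
  refine RingHom.ext fun p => ?_
  simp [MvPolynomial.eval_map]

theorem coeff_eq_zero_of_lt {j : ℕ} (hj : j < Q.rk K) (c : Fin Q.n → K) :
    (Q.P.map (MvPolynomial.eval₂Hom (algebraMap A K) c)).coeff j = 0 := by
  rw [Q.map_eval K c, Polynomial.coeff_map, Polynomial.coeff_eq_zero_of_lt_natTrailingDegree hj, map_zero]

theorem rk_le_natTrailingDegree (c : Fin Q.n → K) :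
    Q.rk K ≤ (Q.P.map (MvPolynomial.eval₂Hom (algebraMap A K) c)).natTrailingDegree :=
  Polynomial.le_natTrailingDegree ((Q.monic_P.map _).ne_zero) fun _ hj => Q.coeff_eq_zero_of_lt K hj c

theorem natTrailingDegree_eq_rk_iff (c : Fin Q.n → K) :
    (Q.P.map (MvPolynomial.eval₂Hom (algebraMap A K) c)).natTrailingDegree = Q.rk K ↔
      (Q.P.map (MvPolynomial.eval₂Hom (algebraMap A K) c)).coeff (Q.rk K) ≠ 0 :=
  ⟨fun h => h ▸ Polynomial.coeff_natTrailingDegree_ne_zero.2 ((Q.monic_P.map _).ne_zero),
    fun h => le_antisymm (Polynomial.natTrailingDegree_le_of_ne_zero h) (Q.rk_le_natTrailingDegree K c)⟩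

variable [Module.Finite A L]

theorem rank_eq_rk_of_infinite [Infinite K] : LieAlgebra.rank K (K ⊗[A] L) = Q.rk K := by
  refine le_antisymm ?_ ?_
  · have h0 : (Q.P.map (MvPolynomial.map (algebraMap A K))).coeff (Q.rk K) ≠ 0 :=
      Polynomial.coeff_natTrailingDegree_ne_zero.2 ((Q.monic_P.map _).ne_zero)
    obtain ⟨c, hc⟩ : ∃ c, MvPolynomial.eval c ((Q.P.map (MvPolynomial.map (algebraMap A K))).coeff (Q.rk K)) ≠ 0 := by
      by_contra h
      push Not at h
      exact h0 (MvPolynomial.funext fun c => by rw [h c, map_zero])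
    refine (LieAlgebra.rank_le_natTrailingDegree_charpoly_ad K (Q.pt K c)).trans ?_
    rw [Q.natTrailingDegree_ad K c]
    refine Polynomial.natTrailingDegree_le_of_ne_zero ?_
    rwa [Q.map_eval K c, Polynomial.coeff_map]
  · obtain ⟨y, hy⟩ := LieAlgebra.exists_isRegular (R := K) (L := K ⊗[A] L)
    obtain ⟨c, rfl⟩ := Q.exists_pt K y
    rw [← (LieAlgebra.isRegular_iff_natTrailingDegree_charpoly_eq_rank K _).1 hy, Q.natTrailingDegree_ad K c]
    exact Q.rk_le_natTrailingDegree K c

theorem rank_eq_rk : LieAlgebra.rank K (K ⊗[A] L) = Q.rk K := by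
  let K' := AlgebraicClosure K
  let e := TensorProduct.AlgebraTensorModule.cancelBaseChange A K K' K' L
  have he : ∀ x y, e ⁅x, y⁆ = ⁅e x, e y⁆ := cancel_lie A K K' L
  rw [← rank_baseChange K', rank_congr e he, Q.rank_eq_rk_of_infinite K', rk, rk]
  have : (MvPolynomial.map (σ := Fin Q.n) (algebraMap A K')) =
      (MvPolynomial.map (algebraMap K K')).comp (MvPolynomial.map (algebraMap A K)) :=
    RingHom.ext fun p => by rw [RingHom.comp_apply, MvPolynomial.map_map, ← IsScalarTower.algebraMap_eq]
  rw [this, ← Polynomial.map_map]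
  exact natTrailingDegree_map (MvPolynomial.map_injective _ (algebraMap K K').injective) _

theorem isRegular_iff (c : Fin Q.n → K) :
    LieAlgebra.IsRegular K (Q.pt K c) ↔
      (Q.P.map (MvPolynomial.eval₂Hom (algebraMap A K) c)).coeff (LieAlgebra.rank K (K ⊗[A] L)) ≠ 0 := by
  rw [LieAlgebra.isRegular_iff_natTrailingDegree_charpoly_eq_rank, Q.natTrailingDegree_ad K c, Q.rank_eq_rk K,
    Q.natTrailingDegree_eq_rk_iff K c]

theorem rk_congr_ker (K' : Type u) [Field K'] [Algebra A K']
    (h : ∀ x : A, algebraMap A K x = 0 ↔ algebraMap A K' x = 0) : Q.rk K = Q.rk K' := by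
  have hc : ∀ j, (Q.P.map (MvPolynomial.map (algebraMap A K))).coeff j = 0 ↔
      (Q.P.map (MvPolynomial.map (algebraMap A K'))).coeff j = 0 := fun j => by
    simp only [Polynomial.coeff_map, MvPolynomial.ext_iff, MvPolynomial.coeff_map, MvPolynomial.coeff_zero, h]
  refine le_antisymm (Polynomial.le_natTrailingDegree ((Q.monic_P.map _).ne_zero) fun j hj => ?_)
    (Polynomial.le_natTrailingDegree ((Q.monic_P.map _).ne_zero) fun j hj => ?_)
  · exact (hc j).1 (Polynomial.coeff_eq_zero_of_lt_natTrailingDegree hj)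
  · exact (hc j).2 (Polynomial.coeff_eq_zero_of_lt_natTrailingDegree hj)

end Pres

end Groth.L15.CartanRel
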