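import Groth.Agent.L15.CartanRel.Local
import Mathlib.RingTheory.Spectrum.Prime.FreeLocus
import Mathlib.RingTheory.Ideal.GoingDown
import Mathlib.RingTheory.RingHom.Flat

/-!
Openness of the regular locus, local constancy of the rank from a flat-local Cartan subalgebra.
-/

set_option autoImplicit false
set_option linter.style.haveILetI false
universe u

noncomputable section

open TensorProduct Module LieSubalgebra

namespace Groth.L15.CartanRel

variable {A : Type u} [CommRing A] {L : Type u} [LieRing L] [LieAlgebra A L] [Module.Finite A L]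
  [Module.Projective A L]

theorem isOpen_regular
    (hC0 : ∀ p : PrimeSpectrum A, ∃ f : A, f ∉ p.asIdeal ∧ ∀ q : PrimeSpectrum A, f ∉ q.asIdeal →
        LieAlgebra.rank q.asIdeal.ResidueField (q.asIdeal.ResidueField ⊗[A] L) =
          LieAlgebra.rank p.asIdeal.ResidueField (p.asIdeal.ResidueField ⊗[A] L)) (a : L) :
    IsOpen {p : PrimeSpectrum A |
      LieAlgebra.IsRegular p.asIdeal.ResidueField ((1 : p.asIdeal.ResidueField) ⊗ₜ[A] a)} := by
  obtain ⟨Q⟩ := exists_pres A L
  refine isOpen_iff_forall_mem_open.2 fun p hp => ?_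
  rw [Set.mem_ofPred_eq, Q.isRegular_one_tmul_iff, Ne, Ideal.algebraMap_residueField_eq_zero] at hp
  obtain ⟨f, hf, hconst⟩ := Q.exists_rk_const hC0 p
  refine ⟨PrimeSpectrum.basicOpen (f * (Q.Pc A (Q.i a)).coeff (Q.rk p.asIdeal.ResidueField)),
    fun q (hq : _ ∉ q.asIdeal) => ?_, PrimeSpectrum.isOpen_basicOpen, fun h => (p.isPrime.mem_or_mem h).elim hf hp⟩
  rw [Set.mem_ofPred_eq, Q.isRegular_one_tmul_iff, Ne, Ideal.algebraMap_residueField_eq_zero,
    hconst q fun h => hq (Ideal.mul_mem_right _ _ h)]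
  exact fun h => hq (Ideal.mul_mem_left _ _ h)

theorem rank_locallyConstant_of_cartan (A' : Type u) [CommRing A'] [Algebra A A'] [Module.FaithfullyFlat A A']
    (H : LieSubalgebra A' (A' ⊗[A] L)) (hH : SGA3t2b.IsCartanRel H) (p : PrimeSpectrum A) :
    ∃ f : A, f ∉ p.asIdeal ∧ ∀ q : PrimeSpectrum A, f ∉ q.asIdeal →
        LieAlgebra.rank q.asIdeal.ResidueField (q.asIdeal.ResidueField ⊗[A] L) =
          LieAlgebra.rank p.asIdeal.ResidueField (p.asIdeal.ResidueField ⊗[A] L) := by
  obtain ⟨Q⟩ := exists_pres A L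
  let r : PrimeSpectrum A → ℕ := fun q => Q.rk q.asIdeal.ResidueField
  haveI := finite_of_projective_quotient hH.1
  haveI := projective_of_projective_quotient hH.1
  haveI : Module.FinitePresentation A' H := Module.finitePresentation_of_projective A' H
  have hr : ∀ P : PrimeSpectrum A', r (PrimeSpectrum.comap (algebraMap A A') P) =
      Module.rankAtStalk (R := A') H P := fun P => by
    show Q.rk _ = _
    rw [← Q.rk_comap A' P, ← Q.rank_eq_rk, ← rank_congr _ (cancel_lie A A' P.asIdeal.ResidueField L),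
      ← (hH.2 P).2.2, ← Ideal.finrank_fiber_eq_rankAtStalk P.asIdeal]
    exact LinearMap.finrank_range_of_inj (subK_injective _ hH.1)
  have hlc : IsLocallyConstant r := fun s => by
    have hq : Topology.IsQuotientMap (PrimeSpectrum.comap (algebraMap A A')) :=
      PrimeSpectrum.isQuotientMap_of_generalizingMap PrimeSpectrum.comap_surjective_of_faithfullyFlat
        (RingHom.Flat.generalizingMap_comap (RingHom.flat_algebraMap_iff.2 inferInstance))
    rw [← hq.isOpen_preimage, ← Set.preimage_comp, show r ∘ PrimeSpectrum.comap (algebraMap A A') =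
      Module.rankAtStalk (R := A') H from funext hr]
    exact Module.isLocallyConstant_rankAtStalk s
  obtain ⟨_, ⟨f, rfl⟩, hpf, hf⟩ := PrimeSpectrum.isTopologicalBasis_basic_opens.exists_subset_of_mem_open
    (show p ∈ r ⁻¹' {r p} from rfl) (hlc {r p})
  refine ⟨f, hpf, fun q hq => ?_⟩
  rw [Q.rank_eq_rk, Q.rank_eq_rk]
  exact hf hq

theorem preserves_baseChange (u : L ≃ₗ⁅A⁆ L) (K : Type u) [CommRing K] [Algebra A K] (x y : K ⊗[A] L) :
    LinearEquiv.baseChange A K L L u.toLinearEquiv ⁅x, y⁆ =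
      ⁅LinearEquiv.baseChange A K L L u.toLinearEquiv x, LinearEquiv.baseChange A K L L u.toLinearEquiv y⁆ := by
  refine preserves_lie_of_closure (LinearEquiv.baseChange A K L L u.toLinearEquiv).toLinearMap.toAddMonoidHom
    (S := {z | ∃ c l, z = c ⊗ₜ[A] l}) (fun z => ?_) ?_ x y
  · induction z using TensorProduct.induction_on with
    | zero => exact zero_mem _
    | add a b ha hb => exact add_mem ha hb
    | tmul c l => exact AddSubmonoid.subset_closure ⟨c, l, rfl⟩
  · rintro _ ⟨c, l, rfl⟩ _ ⟨d, m, rfl⟩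
    exact congrArg ((c * d) ⊗ₜ[A] ·) (u.toLieHom.map_lie l m)

theorem mem_engel_map_iff (u : L ≃ₗ⁅A⁆ L) (a y : L) : u y ∈ engel A (u a) ↔ y ∈ engel A a := by
  have hpow : ∀ (n : ℕ) (y : L), (LieAlgebra.ad A L (u a) ^ n) (u y) = u ((LieAlgebra.ad A L a ^ n) y) := fun n => by
    induction n with
    | zero => intro y; simp
    | succ n ih =>
      intro y
      rw [pow_succ, Module.End.mul_apply, pow_succ, Module.End.mul_apply, ← ih, LieAlgebra.ad_apply,
        LieAlgebra.ad_apply, LieEquiv.map_lie]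
  rw [mem_engel_iff, mem_engel_iff]
  refine exists_congr fun n => ?_
  rw [hpow]
  exact ⟨fun h => u.injective (h.trans (map_zero u).symm), fun h => by rw [h, map_zero]⟩

theorem map_equiv_eq_iff (H : LieSubalgebra A L) (hH : SGA3t2b.IsCartanRel H) (a : L) (haH : a ∈ H)
    (ha : SGA3t2b.IsQuasiRegular A L a) (u : L ≃ₗ⁅A⁆ L) : H.map u.toLieHom = H ↔ u a ∈ H := by
  refine ⟨fun h => h ▸ ⟨a, haH, rfl⟩, fun h => ?_⟩
  have hua : SGA3t2b.IsQuasiRegular A L (u a) := fun p => by
    have h1 := (isRegular_congr (LinearEquiv.baseChange A p.asIdeal.ResidueField L L u.toLinearEquiv)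
      (preserves_baseChange u p.asIdeal.ResidueField) ((1 : p.asIdeal.ResidueField) ⊗ₜ[A] a)).2 (ha p)
    rw [LinearEquiv.baseChange_tmul] at h1
    exact h1
  have h1 := (eq_engel_of_isCartanRel hua hH h).1
  have h2 := (eq_engel_of_isCartanRel ha hH haH).1
  ext y
  refine ⟨?_, fun hy => ⟨u.symm y, ?_, u.apply_symm_apply y⟩⟩
  · rintro ⟨z, hz, rfl⟩
    rw [h1]
    exact (mem_engel_map_iff u a z).2 (h2 ▸ hz)
  · rw [h1, ← u.apply_symm_apply y, mem_engel_map_iff, ← h2] at hy
    exact hy

end Groth.L15.CartanRel
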