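import Mathlib.Algebra.Lie.CartanExists
import Mathlib.Algebra.Lie.BaseChange
import Mathlib.Algebra.Lie.Engel
import Mathlib.FieldTheory.IsAlgClosed.AlgebraicClosure
import Mathlib.RingTheory.TensorProduct.Free
import Mathlib.RingTheory.Flat.FaithfullyFlat.Algebra
import Mathlib.LinearAlgebra.Charpoly.BaseChange

/-!
Regular elements of Lie algebras over arbitrary fields.
-/

set_option autoImplicit false
set_option linter.style.haveILetI false
universe u v

noncomputable section

open TensorProduct Module LieAlgebra LieSubalgebra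

namespace Groth.L15.CartanRel

attribute [local instance 100] LieRing.ofAssociativeRing

theorem natTrailingDegree_map {R S : Type*} [CommRing R] [CommRing S] {f : R →+* S} (hf : Function.Injective f)
    (p : Polynomial R) : (p.map f).natTrailingDegree = p.natTrailingDegree := by
  rcases eq_or_ne p 0 with rfl | hp
  · simp
  refine le_antisymm (Polynomial.natTrailingDegree_le_of_ne_zero ?_)
    (Polynomial.natTrailingDegree_le_of_ne_zero ?_)
  · rw [Polynomial.coeff_map]; exact fun h => Polynomial.coeff_natTrailingDegree_ne_zero.2 hp (hf (h.trans (map_zero f).symm))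
  · have := Polynomial.coeff_natTrailingDegree_ne_zero.2 ((Polynomial.map_ne_zero_iff hf).2 hp)
    rw [Polynomial.coeff_map] at this; exact fun h => this (by rw [h, map_zero])

variable {K : Type u} [Field K] {M : Type u} [LieRing M] [LieAlgebra K M] [Module.Finite K M]

theorem isNilpotent_engel_of_finrank_le_card (h : ((finrank K M : ℕ) : Cardinal) ≤ Cardinal.mk K) {x : M} (hx : IsRegular K x) :
    LieRing.IsNilpotent (engel K x) := by
  apply isNilpotent_of_forall_le_engel
  intro y hy
  set Ex : {engel K z | z ∈ engel K x} := ⟨engel K x, x, self_mem_engel _ _, rfl⟩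
  suffices IsBot Ex from @this ⟨engel K y, y, hy, rfl⟩
  apply engel_isBot_of_isMin h (engel K x) Ex le_rfl
  rintro ⟨_, y, hy, rfl⟩ hyx
  suffices finrank K (engel K x) ≤ finrank K (engel K y) by
    suffices engel K y = engel K x from this.ge
    apply LieSubalgebra.toSubmodule_injective
    exact Submodule.eq_of_le_of_finrank_le hyx this
  rw [(isRegular_iff_finrank_engel_eq_rank K x).mp hx]
  apply rank_le_finrank_engel

variable (K' : Type u) [Field K'] [Algebra K K']

theorem rank_baseChange : LieAlgebra.rank K' (K' ⊗[K] M) = LieAlgebra.rank K M := by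
  classical
  let b := Module.Free.chooseBasis K M
  let φ : M →ₗ[K] Module.End K M := (LieAlgebra.ad K M).toLinearMap
  have h : (LieAlgebra.ad K' (K' ⊗[K] M)).toLinearMap =
      (LinearMap.tensorProduct K K' M M) ∘ₗ φ.baseChange K' := by
    ext x y
    simp [φ, LinearMap.tensorProduct]
  rw [LieAlgebra.rank_eq_natTrailingDegree K' (K' ⊗[K] M) (Algebra.TensorProduct.basis K' b), LieAlgebra.rank_eq_natTrailingDegree K M b, h,
    LinearMap.polyCharpoly_baseChange]
  exact natTrailingDegree_map (MvPolynomial.map_injective _ (algebraMap K K').injective) _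

theorem ad_baseChange (x : M) :
    LieAlgebra.ad K' (K' ⊗[K] M) ((1 : K') ⊗ₜ[K] x) = (LieAlgebra.ad K M x).baseChange K' := by
  exact LieModule.toEnd_baseChange (R := K) (A := K') (L := M) (M := M) x

theorem natTrailingDegree_baseChange (x : M) :
    (LieAlgebra.ad K' (K' ⊗[K] M) ((1 : K') ⊗ₜ[K] x)).charpoly.natTrailingDegree =
      (LieAlgebra.ad K M x).charpoly.natTrailingDegree := by
  rw [ad_baseChange, LinearMap.charpoly_baseChange]
  exact natTrailingDegree_map (algebraMap K K').injective _

theorem isRegular_baseChange_iff (x : M) :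
    IsRegular K' ((1 : K') ⊗ₜ[K] x) ↔ IsRegular K x := by
  rw [isRegular_iff_natTrailingDegree_charpoly_eq_rank, isRegular_iff_natTrailingDegree_charpoly_eq_rank,
    natTrailingDegree_baseChange, rank_baseChange]

omit K' in
theorem isNilpotent_engel {x : M} (hx : IsRegular K x) : LieRing.IsNilpotent (engel K x) := by
  let K' := AlgebraicClosure K
  haveI hn : LieRing.IsNilpotent (engel K' ((1 : K') ⊗ₜ[K] x)) :=
    isNilpotent_engel_of_finrank_le_card
      (Cardinal.natCast_le_aleph0.trans (Cardinal.infinite_iff.mp inferInstance)) ((isRegular_baseChange_iff K' x).2 hx)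
  have hmem : ∀ y ∈ engel K x, (1 : K') ⊗ₜ[K] y ∈ engel K' ((1 : K') ⊗ₜ[K] x) := fun y hy => by
    obtain ⟨n, hn⟩ := (mem_engel_iff K x y).1 hy
    refine (mem_engel_iff _ _ _).2 ⟨n, ?_⟩
    have : (LieAlgebra.ad K' (K' ⊗[K] M) ((1 : K') ⊗ₜ[K] x) ^ n) ((1 : K') ⊗ₜ[K] y) =
        (1 : K') ⊗ₜ[K] ((LieAlgebra.ad K M x ^ n) y) := by
      clear hn
      induction n with
      | zero => rfl
      | succ n ih => rw [pow_succ', Module.End.mul_apply, ih, pow_succ', Module.End.mul_apply]; simp
    rw [this, hn, tmul_zero]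
  let f : (engel K x) →ₗ⁅ℤ⁆ (engel K' ((1 : K') ⊗ₜ[K] x)) :=
    { toFun := fun y => ⟨_, hmem y.1 y.2⟩
      map_add' := fun a b => Subtype.ext (tmul_add _ _ _)
      map_smul' := fun c a => Subtype.ext (by simp)
      map_lie' := fun {a b} => Subtype.ext (by simp) }
  refine Function.Injective.lieAlgebra_isNilpotent (f := f) fun a b h => Subtype.ext ?_
  exact Module.FaithfullyFlat.tensorProduct_mk_injective (A := K) (B := K') M (congrArg Subtype.val h)

omit K' in
theorem isRegular_smul_iff {t : K} (ht : t ≠ 0) (x : M) : IsRegular K (t • x) ↔ IsRegular K x := by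
  have : engel K (t • x) = engel K x := by
    ext y
    rw [mem_engel_iff, mem_engel_iff]
    refine exists_congr fun n => ?_
    rw [map_smul, smul_pow, LinearMap.smul_apply, smul_eq_zero]
    exact or_iff_right (pow_ne_zero _ ht)
  rw [isRegular_iff_finrank_engel_eq_rank, isRegular_iff_finrank_engel_eq_rank, this]

omit K' in
/-- A nilpotent self-normalizing subalgebra is an Engel subalgebra over an infinite field. -/
theorem exists_engel_eq [Infinite K] (H : LieSubalgebra K M) [LieRing.IsNilpotent H] (hH : H.normalizer = H) :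
    ∃ a ∈ H, engel K a = H := by
  classical
  have hle : ∀ y ∈ H, H ≤ engel K y := fun y hy z hz => by
    obtain ⟨n, hn⟩ := LieAlgebra.isNilpotent_iff_forall (R := K).1 (show LieRing.IsNilpotent H from inferInstance) ⟨y, hy⟩
    refine (mem_engel_iff _ _ _).2 ⟨n, ?_⟩
    have := congrArg Subtype.val (LinearMap.congr_fun hn ⟨z, hz⟩)
    rwa [LieSubalgebra.coe_ad_pow] at this
  obtain ⟨x, hx, hmin⟩ := WellFounded.has_min (measure fun y : M => finrank K (engel K y)).wf (H : Set M) ⟨0, H.zero_mem⟩
  have hbot : ∀ y ∈ H, engel K x ≤ engel K y := by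
    have : IsBot (⟨engel K x, x, hx, rfl⟩ : {engel K z | z ∈ H}) := by
      refine engel_isBot_of_isMin (Cardinal.natCast_le_aleph0.trans (Cardinal.infinite_iff.mp inferInstance)) H _
        (hle x hx) ?_
      rintro ⟨_, y, hy, rfl⟩ hyx
      have h1 : finrank K (engel K x) ≤ finrank K (engel K y) := not_lt.1 (hmin y hy)
      exact (LieSubalgebra.toSubmodule_injective (Submodule.eq_of_le_of_finrank_le hyx h1)).ge
    exact fun y hy => @this ⟨engel K y, y, hy, rfl⟩
  refine ⟨x, hx, le_antisymm ?_ (hle x hx)⟩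
  by_contra hne
  set E := engel K x
  let E' : LieSubmodule K H M :=
    { E.toSubmodule with lie_mem := fun {y} {m} hm => E.lie_mem (hle x hx y.2) hm }
  let H' : LieSubmodule K H M :=
    { H.toSubmodule with lie_mem := fun {y} {m} hm => H.lie_mem y.2 hm }
  haveI : LieModule.IsNilpotent H E' := by
    rw [LieModule.isNilpotent_iff_forall (R := K)]
    intro y
    obtain ⟨n, hn⟩ : ∃ n, ∀ m : E', ((LieModule.toEnd K H E' y) ^ n) m = 0 := by
      have hev : ∀ m : E', ∃ n, ((LieModule.toEnd K H E' y) ^ n) m = 0 := fun m => by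
        obtain ⟨n, hn⟩ := (mem_engel_iff _ _ _).1 (hbot y.1 y.2 m.2)
        refine ⟨n, Subtype.ext ?_⟩
        have : ∀ j : ℕ, (((LieModule.toEnd K H E' y) ^ j) m : M) = (LieAlgebra.ad K M y.1 ^ j) m.1 := fun j => by
          induction j with
          | zero => rfl
          | succ j ih => rw [pow_succ', Module.End.mul_apply, pow_succ', Module.End.mul_apply, ← ih]; rfl
        rw [this, hn]; rfl
      choose N hN using hev
      let b := Module.Free.chooseBasis K E'
      refine ⟨∑ i, N (b i), fun m => ?_⟩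
      have : ((LieModule.toEnd K H E' y) ^ (∑ i, N (b i))) = 0 := b.ext fun i =>
        Module.End.pow_map_zero_of_le (Finset.single_le_sum (fun j _ => Nat.zero_le (N (b j))) (Finset.mem_univ i)) (hN _)
      rw [this]; rfl
    exact ⟨n, LinearMap.ext hn⟩
  let N : LieSubmodule K H E' := H'.comap E'.incl
  have hN : N ≠ ⊤ := fun h => hne fun m hm => (h.ge (LieSubmodule.mem_top (⟨m, hm⟩ : E')) :)
  haveI : Nontrivial (E' ⧸ N) := Submodule.Quotient.nontrivial_iff.2 (fun h => hN (LieSubmodule.toSubmodule_injective h))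
  haveI : LieModule.IsNilpotent H (E' ⧸ N) :=
    Function.Surjective.lieModuleIsNilpotent (f := (LieHom.id : H →ₗ⁅K⁆ H)) (g := (N.toSubmodule.mkQ))
      (hf_surj := Function.surjective_id) (hg_surj := Submodule.mkQ_surjective _) (hfg := fun _ _ => rfl)
  haveI := LieModule.nontrivial_max_triv_of_isNilpotent K H (E' ⧸ N)
  obtain ⟨⟨q, hq⟩, hq0'⟩ := exists_ne (0 : LieModule.maxTrivSubmodule K H (E' ⧸ N))
  have hq0 : q ≠ 0 := fun h => hq0' (Subtype.ext h)
  obtain ⟨m, rfl⟩ := LieSubmodule.Quotient.surjective_mk' N q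
  refine hq0 ((LieSubmodule.Quotient.mk_eq_zero' (N := N)).2 ?_)
  show (m : M) ∈ H
  refine hH.le ((LieSubalgebra.mem_normalizer_iff _ _).2 fun y hy => ?_)
  have h1 := hq ⟨y, hy⟩
  rw [← (LieSubmodule.Quotient.mk' N).map_lie] at h1
  have h2 : ⁅y, (m : M)⁆ ∈ H := (LieSubmodule.Quotient.mk_eq_zero' (N := N)).1 h1
  rw [← lie_skew] at h2
  exact neg_mem_iff.1 h2

end Groth.L15.CartanRel
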