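import Groth.Agent.L15.CartanRel.Main
import Mathlib.RingTheory.LocalRing.ResidueField.Fiber
import Mathlib.RingTheory.Etale.Pi
import Mathlib.RingTheory.Smooth.Flat
import Mathlib.LinearAlgebra.Matrix.Adjugate

/-!
Local existence of regular elements and of relative Cartan subalgebras.
-/

set_option autoImplicit false
set_option linter.style.haveILetI false
universe u

noncomputable section

open TensorProduct Module LieSubalgebra

namespace Groth.L15.CartanRel

attribute [local instance 100] LieRing.ofAssociativeRing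

variable {A : Type u} [CommRing A]

theorem det_smul_eq_zero {n : ℕ} (G : End A (Fin n → A)) {x : Fin n → A} (hx : G x = 0) :
    LinearMap.det G • x = 0 := by
  have h0 : (LinearMap.toMatrix' G).mulVec x = 0 := by rw [LinearMap.toMatrix'_mulVec]; exact hx
  have h1 := congrArg ((LinearMap.toMatrix' G).adjugate.mulVec) h0
  rw [Matrix.mulVec_mulVec, Matrix.adjugate_mul, Matrix.smul_mulVec, Matrix.one_mulVec, Matrix.mulVec_zero,
    LinearMap.det_toMatrix'] at h1
  exact h1

theorem residueField_exists_smul_eq (p : PrimeSpectrum A) (c : p.asIdeal.ResidueField) :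
    ∃ s : A, s ∉ p.asIdeal ∧ ∃ t : A, s • c = algebraMap A p.asIdeal.ResidueField t := by
  obtain ⟨s, hs, t, h⟩ := Ideal.Fiber.exists_smul_eq_one_tmul (p := p.asIdeal) (S := A) (c ⊗ₜ[A] (1 : A))
  refine ⟨s, hs, t, ?_⟩
  have := congrArg (TensorProduct.rid A p.asIdeal.ResidueField) h
  simpa [Algebra.smul_def] using this

/-- Denominators of an element of the fibre. -/
theorem fibre_exists_smul_eq {M : Type u} [AddCommGroup M] [Module A M] (p : PrimeSpectrum A)
    (x : p.asIdeal.ResidueField ⊗[A] M) :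
    ∃ s : A, s ∉ p.asIdeal ∧ ∃ m : M, algebraMap A p.asIdeal.ResidueField s • x = 1 ⊗ₜ[A] m := by
  induction x using TensorProduct.induction_on with
  | zero => exact ⟨1, p.isPrime.one_notMem, 0, by simp⟩
  | tmul c m =>
    obtain ⟨s, hs, t, h⟩ := residueField_exists_smul_eq p c
    refine ⟨s, hs, t • m, ?_⟩
    rw [smul_tmul', smul_eq_mul, ← Algebra.smul_def, h, ← smul_tmul, Algebra.algebraMap_eq_smul_one]
  | add x y hx hy =>
    obtain ⟨s, hs, m, hm⟩ := hx
    obtain ⟨t, ht, n, hn⟩ := hy
    refine ⟨s * t, fun h => (p.isPrime.mem_or_mem h).elim hs ht, t • m + s • n, ?_⟩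
    rw [tmul_add, ← smul_tmul, ← smul_tmul, ← Algebra.algebraMap_eq_smul_one, ← Algebra.algebraMap_eq_smul_one,
      map_mul, smul_add, mul_comm, mul_smul, hm, mul_comm, mul_smul, hn]
    simp [smul_tmul', Algebra.algebraMap_eq_smul_one]

variable {L : Type u} [LieRing L] [LieAlgebra A L]

theorem Pres.Pc_map (Q : Pres A L) (B B' : Type u) [CommRing B] [CommRing B'] [Algebra A B] [Algebra A B']
    [Algebra B B'] [IsScalarTower A B B'] (c : Fin Q.n → B) :
    (Q.Pc B c).map (algebraMap B B') = Q.Pc B' fun l => algebraMap B B' (c l) := by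
  rw [Pres.Pc, Pres.Pc, Polynomial.map_map]
  congr 1
  refine MvPolynomial.ringHom_ext (fun r => ?_) fun i => ?_
  · simp [← IsScalarTower.algebraMap_apply]
  · simp

variable [Module.Finite A L] [Module.Projective A L] (Q : Pres A L)

theorem exists_regular_nhd
    (hC0 : ∀ p : PrimeSpectrum A, ∃ f : A, f ∉ p.asIdeal ∧ ∀ q : PrimeSpectrum A, f ∉ q.asIdeal →
        LieAlgebra.rank q.asIdeal.ResidueField (q.asIdeal.ResidueField ⊗[A] L) =
          LieAlgebra.rank p.asIdeal.ResidueField (p.asIdeal.ResidueField ⊗[A] L))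
    (p : PrimeSpectrum A)
    (hp : ∃ x : p.asIdeal.ResidueField ⊗[A] L, LieAlgebra.IsRegular p.asIdeal.ResidueField x) :
    ∃ f : A, f ∉ p.asIdeal ∧ ∃ a : L, ∀ q : PrimeSpectrum A, f ∉ q.asIdeal →
      (Q.Pc A (Q.i a)).coeff (Q.rk q.asIdeal.ResidueField) ∉ q.asIdeal := by
  obtain ⟨x, hx⟩ := hp
  obtain ⟨s, hs, a, ha⟩ := fibre_exists_smul_eq p x
  have hs' : algebraMap A p.asIdeal.ResidueField s ≠ 0 := fun h => hs (Ideal.algebraMap_residueField_eq_zero.1 h)
  have h1 := (Q.isRegular_one_tmul_iff a p.asIdeal.ResidueField).1 (ha ▸ (isRegular_smul_iff hs' x).2 hx)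
  rw [Ne, Ideal.algebraMap_residueField_eq_zero] at h1
  obtain ⟨f, hf, hconst⟩ := Q.exists_rk_const hC0 p
  refine ⟨f * (Q.Pc A (Q.i a)).coeff (Q.rk p.asIdeal.ResidueField),
    fun h => (p.isPrime.mem_or_mem h).elim hf h1, a, fun q hq hmem => hq ?_⟩
  rw [hconst q fun h => hq (Ideal.mul_mem_right _ _ h)] at hmem
  exact Ideal.mul_mem_left _ _ hmem

theorem coeff_fibre (A' : Type u) [CommRing A'] [Algebra A A'] (K : Type u) [Field K] [Algebra A K] [Algebra A' K]
    [IsScalarTower A A' K] (c : Fin Q.n → A') (a : L) (h : ∀ l, algebraMap A' K (c l) = algebraMap A K (Q.i a l))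
    (j : ℕ) : algebraMap A' K ((Q.Pc A' c).coeff j) = algebraMap A K ((Q.Pc A (Q.i a)).coeff j) := by
  rw [← Polynomial.coeff_map, ← Polynomial.coeff_map, Q.Pc_map A' K, Q.Pc_map A K]
  simp only [h]

theorem exists_cartan_away
    (hC0 : ∀ p : PrimeSpectrum A, ∃ f : A, f ∉ p.asIdeal ∧ ∀ q : PrimeSpectrum A, f ∉ q.asIdeal →
        LieAlgebra.rank q.asIdeal.ResidueField (q.asIdeal.ResidueField ⊗[A] L) =
          LieAlgebra.rank p.asIdeal.ResidueField (p.asIdeal.ResidueField ⊗[A] L))
    (hC2 : ∀ (A' : Type u) [CommRing A'] [Algebra A A'] (a' : A' ⊗[A] L),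
        SGA3t2b.IsQuasiRegular A' (A' ⊗[A] L) a' → SGA3t2b.IsRegularRel A' (A' ⊗[A] L) a')
    (p : PrimeSpectrum A)
    (hp : ∃ x : p.asIdeal.ResidueField ⊗[A] L, LieAlgebra.IsRegular p.asIdeal.ResidueField x) :
    ∃ f : A, f ∉ p.asIdeal ∧
      ∃ H : LieSubalgebra (Localization.Away f) (Localization.Away f ⊗[A] L), SGA3t2b.IsCartanRel H := by
  obtain ⟨Q⟩ := exists_pres A L
  obtain ⟨f, hf, a, ha⟩ := exists_regular_nhd Q hC0 p hp
  refine ⟨f, hf, ?_⟩
  have hquasi : SGA3t2b.IsQuasiRegular (Localization.Away f) (Localization.Away f ⊗[A] L)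
      (Q.pt _ fun l => algebraMap A (Localization.Away f) (Q.i a l)) := by
    intro P
    rw [Q.isRegular_fibre_iff, coeff_fibre Q (Localization.Away f) P.asIdeal.ResidueField _ a (fun l =>
      (IsScalarTower.algebraMap_apply _ _ _ _).symm), Q.rk_comap, Ne,
      IsScalarTower.algebraMap_apply A (Localization.Away f) P.asIdeal.ResidueField,
      Ideal.algebraMap_residueField_eq_zero]
    refine ha (PrimeSpectrum.comap (algebraMap A (Localization.Away f)) P) fun h => ?_
    exact P.isPrime.ne_top (Ideal.eq_top_of_isUnit_mem _ h (IsLocalization.Away.algebraMap_isUnit f))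
  obtain ⟨-, H, hH, -⟩ := hC2 _ _ hquasi
  exact ⟨H, hH⟩

theorem exists_cartan_etale
    (hC0 : ∀ p : PrimeSpectrum A, ∃ f : A, f ∉ p.asIdeal ∧ ∀ q : PrimeSpectrum A, f ∉ q.asIdeal →
        LieAlgebra.rank q.asIdeal.ResidueField (q.asIdeal.ResidueField ⊗[A] L) =
          LieAlgebra.rank p.asIdeal.ResidueField (p.asIdeal.ResidueField ⊗[A] L))
    (hC2 : ∀ (A' : Type u) [CommRing A'] [Algebra A A'] (a' : A' ⊗[A] L),
        SGA3t2b.IsQuasiRegular A' (A' ⊗[A] L) a' → SGA3t2b.IsRegularRel A' (A' ⊗[A] L) a')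
    (hreg : ∀ p : PrimeSpectrum A, ∃ x : p.asIdeal.ResidueField ⊗[A] L, LieAlgebra.IsRegular p.asIdeal.ResidueField x) :
    ∃ (A' : Type u) (_ : CommRing A') (_ : Algebra A A'), Algebra.Etale A A' ∧ Module.FaithfullyFlat A A' ∧
        ∃ H : LieSubalgebra A' (A' ⊗[A] L), SGA3t2b.IsCartanRel H := by
  classical
  obtain ⟨Q⟩ := exists_pres A L
  choose f hf a ha using fun p => exists_regular_nhd Q hC0 p (hreg p)
  have htop : Ideal.span (Set.range f) = ⊤ := by
    by_contra hne
    obtain ⟨m, hm, hle⟩ := Ideal.exists_le_maximal _ hne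
    exact hf ⟨m, hm.isPrime⟩ (hle (Ideal.subset_span ⟨_, rfl⟩))
  obtain ⟨t, htr, ht⟩ := Submodule.mem_span_finite_of_mem_span ((Ideal.eq_top_iff_one _).mp htop)
  choose g hg using fun x : t => htr x.2
  let A' := Π x : t, Localization.Away (f (g x))
  haveI : ∀ x : t, Algebra.Etale A (Localization.Away (f (g x))) := fun x =>
    Algebra.Etale.of_isLocalizationAway (f (g x))
  haveI : Algebra.Etale A A' := inferInstance
  have hff : Module.FaithfullyFlat A A' := Module.FaithfullyFlat.of_comap_surjective fun q => by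
    obtain ⟨x, hx⟩ : ∃ x : t, f (g x) ∉ q.asIdeal := by
      by_contra! h
      exact q.isPrime.ne_top ((Ideal.eq_top_iff_one _).mpr (Submodule.span_le.mpr (fun y hy => by
        have := h ⟨y, hy⟩
        rwa [hg ⟨y, hy⟩] at this) ht))
    obtain ⟨Q', hQ'⟩ : q ∈ Set.range (PrimeSpectrum.comap (algebraMap A (Localization.Away (f (g x))))) := by
      rw [PrimeSpectrum.localization_away_comap_range (Localization.Away (f (g x))) (f (g x))]
      exact hx
    exact ⟨PrimeSpectrum.comap (Pi.evalRingHom _ x) Q', by rw [← PrimeSpectrum.comap_comp_apply]; exact hQ'⟩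
  refine ⟨A', inferInstance, inferInstance, inferInstance, hff, ?_⟩
  have hquasi : SGA3t2b.IsQuasiRegular A' (A' ⊗[A] L)
      (Q.pt A' fun l => fun x => algebraMap A (Localization.Away (f (g x))) (Q.i (a (g x)) l)) := by
    intro P
    obtain ⟨x, hx⟩ : ∃ x : t, (Pi.single x 1 : A') ∉ P.asIdeal := by
      by_contra! h
      refine P.isPrime.ne_top ((Ideal.eq_top_iff_one _).mpr ?_)
      have : (1 : A') = ∑ x, Pi.single x 1 := by rw [Finset.univ_sum_single]; rfl
      rw [this]
      exact Ideal.sum_mem _ fun x _ => h x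
    set K := P.asIdeal.ResidueField
    set e : A' := Pi.single x 1 with he
    have he1 : algebraMap A' K e = 1 := by
      have h0 : algebraMap A' K e ≠ 0 := fun h => hx (Ideal.algebraMap_residueField_eq_zero.1 h)
      refine mul_left_cancel₀ h0 ?_
      rw [mul_one, ← map_mul, he, ← Pi.single_mul, mul_one]
    have hval : ∀ (y : A') (b : A), y x = algebraMap A (Localization.Away (f (g x))) b →
        algebraMap A' K y = algebraMap A K b := fun y b h => by
      rw [← mul_one (algebraMap A' K y), ← he1, ← map_mul, IsScalarTower.algebraMap_apply A A' K b,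
        ← mul_one (algebraMap A' K (algebraMap A A' b)), ← he1, ← map_mul]
      congr 1
      funext z
      rcases eq_or_ne z x with rfl | hz
      · show y z * _ = algebraMap A _ b * _
        rw [h]
      · show y z * (Pi.single x (1 : Localization.Away (f (g x))) : ∀ x : t, Localization.Away (f (g x))) z =
          algebraMap A _ b * (Pi.single x (1 : Localization.Away (f (g x))) : ∀ x : t, Localization.Away (f (g x))) z
        rw [Pi.single_eq_of_ne hz, mul_zero, mul_zero]
    rw [Q.isRegular_fibre_iff, coeff_fibre Q A' K _ (a (g x)) (fun l => hval _ _ rfl), Q.rk_comap, Ne,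
      IsScalarTower.algebraMap_apply A A' K, Ideal.algebraMap_residueField_eq_zero]
    refine ha (g x) (PrimeSpectrum.comap (algebraMap A A') P) fun h => hx ?_
    have hunit := IsLocalization.Away.algebraMap_isUnit (S := Localization.Away (f (g x))) (f (g x))
    obtain ⟨u, hu⟩ := hunit.exists_right_inv
    have : e = algebraMap A A' (f (g x)) * Pi.single x u := by
      funext z
      rcases eq_or_ne z x with rfl | hz
      · show (Pi.single z 1 : ∀ x : t, Localization.Away (f (g x))) z = algebraMap A _ (f (g z)) *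
          (Pi.single z u : ∀ x : t, Localization.Away (f (g x))) z
        rw [Pi.single_eq_same, Pi.single_eq_same, hu]
      · show (Pi.single x 1 : ∀ x : t, Localization.Away (f (g x))) z = algebraMap A _ (f (g x)) *
          (Pi.single x u : ∀ x : t, Localization.Away (f (g x))) z
        rw [Pi.single_eq_of_ne hz, Pi.single_eq_of_ne hz, mul_zero]
    rw [this]
    exact Ideal.mul_mem_right _ _ h
  obtain ⟨-, H, hH, -⟩ := hC2 _ _ hquasi
  exact ⟨H, hH⟩

theorem exists_regular_mem (H : LieSubalgebra A L) (hH : SGA3t2b.IsCartanRel H) (p : PrimeSpectrum A)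
    (hp : Infinite p.asIdeal.ResidueField) :
    ∃ f : A, f ∉ p.asIdeal ∧ ∃ a : L, a ∈ H ∧
      (∀ q : PrimeSpectrum A, f ∉ q.asIdeal →
        LieAlgebra.IsRegular q.asIdeal.ResidueField ((1 : q.asIdeal.ResidueField) ⊗ₜ[A] a)) ∧
      H ≤ LieSubalgebra.engel A a ∧
      ∀ y : L, y ∈ LieSubalgebra.engel A a → ∃ n : ℕ, f ^ n • y ∈ H := by
  haveI := isNilpotent_fibreSub H p.asIdeal.ResidueField (hH.2 p).1
  have hnorm : (fibreSub H p.asIdeal.ResidueField).normalizer = fibreSub H p.asIdeal.ResidueField :=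
    le_antisymm (fun x hx => (hH.2 p).2.1 x fun y hy => (LieSubalgebra.mem_normalizer_iff _ _).1 hx y hy)
      (LieSubalgebra.le_normalizer _)
  obtain ⟨y, ⟨x, rfl⟩, hy⟩ := exists_engel_eq (fibreSub H p.asIdeal.ResidueField) hnorm
  obtain ⟨s, hs, h, hh⟩ := fibre_exists_smul_eq (M := H) p x
  have hs' : algebraMap A p.asIdeal.ResidueField s ≠ 0 := fun h => hs (Ideal.algebraMap_residueField_eq_zero.1 h)
  have hreg : LieAlgebra.IsRegular p.asIdeal.ResidueField ((1 : p.asIdeal.ResidueField) ⊗ₜ[A] (h : L)) := by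
    have h1 := congrArg (subK H p.asIdeal.ResidueField) hh
    rw [map_smul, LinearMap.baseChange_tmul] at h1
    rw [show ((1 : p.asIdeal.ResidueField) ⊗ₜ[A] (h : L)) = _ from h1.symm, isRegular_smul_iff hs',
      LieAlgebra.isRegular_iff_finrank_engel_eq_rank, hy]
    exact (hH.2 p).2.2
  haveI : Module.Projective A (L ⧸ H.toSubmodule) := hH.1
  obtain ⟨m, r, i, -, -, hri⟩ := Module.Finite.exists_comp_eq_id_of_projective A (L ⧸ H.toSubmodule)
  have hri' : ∀ w, r (i w) = w := fun w => LinearMap.congr_fun hri w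
  set F := adQ h.2 with hF
  set G := splice r i F with hG
  have hdet : ∀ q : PrimeSpectrum A, LinearMap.det G ∉ q.asIdeal ↔
      Function.Injective (F.baseChange q.asIdeal.ResidueField) := fun q => by
    have hKr := baseChange_section hri q.asIdeal.ResidueField
    have hKr' : ∀ w, r.baseChange q.asIdeal.ResidueField (i.baseChange q.asIdeal.ResidueField w) = w :=
      fun w => LinearMap.congr_fun hKr w
    rw [← Ideal.algebraMap_residueField_eq_zero, ← LinearMap.det_baseChange, hG, splice_baseChange,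
      LinearMap.det_eq_zero_iff_ker_ne_bot, ne_eq, not_not, LinearMap.ker_eq_bot]
    refine ⟨fun hinj => (injective_iff_map_eq_zero _).2 fun w hw => ?_,
      fun hinj => (injective_iff_map_eq_zero _).2 fun v hv => ?_⟩
    · have h1 : i.baseChange q.asIdeal.ResidueField w = 0 := hinj (by rw [splice_i hKr, hw, map_zero, map_zero])
      rw [← hKr' w, h1, map_zero]
    · have h1 := congrArg (r.baseChange q.asIdeal.ResidueField) hv
      rw [r_splice hKr, map_zero] at h1
      have h2 : r.baseChange q.asIdeal.ResidueField v = 0 := hinj (h1.trans (map_zero _).symm)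
      simpa [splice, h2] using hv
  refine ⟨LinearMap.det G, (hdet p).2 (adQ_baseChange_bijective _ h.2 (fibreSub_eq_engel hH h.2 p hreg).ge
    (fibreSub_eq_engel hH h.2 p hreg).le).1, h, h.2, fun q hq => ?_, le_engel_of_isCartanRel hH h.2, fun y hy => ?_⟩
  · rw [LieAlgebra.isRegular_iff_finrank_engel_eq_rank, le_antisymm (engel_le_fibreSub _ h.2 ((hdet q).1 hq))
      (fibreSub_le_engel_of_isNilpotent _ h.2 (hH.2 q).1)]
    exact (hH.2 q).2.2
  · obtain ⟨n, hn⟩ := (mem_engel_iff _ _ _).1 hy
    have h1 := adQ_pow_mk h.2 n y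
    rw [hn, map_zero, ← hF] at h1
    have h2 : (G ^ n) (i (H.toSubmodule.mkQ y)) = 0 := by rw [hG, splice_pow_i hri, h1, map_zero]
    have h3 := congrArg r (det_smul_eq_zero (G ^ n) h2)
    rw [map_smul, map_pow, hri', map_zero, ← map_smul] at h3
    exact ⟨n, (Submodule.Quotient.mk_eq_zero _).1 h3⟩

end Groth.L15.CartanRel
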