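import Groth.Agent.L15.CartanRel.Criterion
import Mathlib.LinearAlgebra.Projection
import Mathlib.Algebra.Module.Projective

/-!
Relative Cartan subalgebras as Engel subalgebras of quasi-regular elements.
-/

set_option autoImplicit false
set_option linter.style.haveILetI false
universe u

noncomputable section

open TensorProduct Module LieSubalgebra

namespace Groth.L15.CartanRel

attribute [local instance 100] LieRing.ofAssociativeRing

variable {A : Type u} [CommRing A] {L : Type u} [LieRing L] [LieAlgebra A L]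
variable {H : LieSubalgebra A L}

theorem exists_retraction (hp : Module.Projective A (L ⧸ H.toSubmodule)) :
    ∃ ρ : L →ₗ[A] H, ∀ h : H, ρ (h : L) = h := by
  obtain ⟨s, hs⟩ := Module.projective_lifting_property H.toSubmodule.mkQ LinearMap.id (Submodule.mkQ_surjective _)
  have hs' : ∀ q, H.toSubmodule.mkQ (s q) = q := fun q => LinearMap.congr_fun hs q
  refine ⟨LinearMap.codRestrict H.toSubmodule (LinearMap.id - s ∘ₗ H.toSubmodule.mkQ) fun y => ?_, fun h => Subtype.ext ?_⟩
  · rw [← Submodule.Quotient.mk_eq_zero]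
    simp [← Submodule.mkQ_apply, hs']
  · show (h : L) - s (H.toSubmodule.mkQ (h : L)) = h
    rw [Submodule.mkQ_apply, (Submodule.Quotient.mk_eq_zero _).2 h.2, map_zero, sub_zero]

theorem finite_of_projective_quotient [Module.Finite A L] (hp : Module.Projective A (L ⧸ H.toSubmodule)) :
    Module.Finite A H :=
  let ⟨ρ, hρ⟩ := exists_retraction hp
  Module.Finite.of_surjective ρ fun h => ⟨h, hρ h⟩

theorem projective_of_projective_quotient [Module.Projective A L] (hp : Module.Projective A (L ⧸ H.toSubmodule)) :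
    Module.Projective A H :=
  let ⟨ρ, hρ⟩ := exists_retraction hp
  Module.Projective.of_split (H.toSubmodule.subtype : H →ₗ[A] L) ρ (LinearMap.ext hρ)

theorem subK_injective (K : Type u) [Field K] [Algebra A K] (hp : Module.Projective A (L ⧸ H.toSubmodule)) :
    Function.Injective (subK H K) := by
  obtain ⟨ρ, hρ⟩ := exists_retraction hp
  refine Function.LeftInverse.injective (g := ρ.baseChange K) fun x => ?_
  rw [← LinearMap.comp_apply, subK, ← LinearMap.baseChange_comp,
    show ρ ∘ₗ (H.toSubmodule.subtype : H →ₗ[A] L) = LinearMap.id from LinearMap.ext hρ, LinearMap.baseChange_id]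
  rfl

section Field

variable [Module.Finite A L] (K : Type u) [Field K] [Algebra A K] {a : L}

theorem fibreSub_le_engel_of_isNilpotent (ha : a ∈ H) (h : LieRing.IsNilpotent (K ⊗[A] H)) :
    fibreSub H K ≤ engel K ((1 : K) ⊗ₜ[A] a) := by
  intro z hz
  haveI := isNilpotent_fibreSub H K h
  obtain ⟨n, hn⟩ : IsNilpotent (LieAlgebra.ad K (fibreSub H K) ⟨_, tmul_mem_fibreSub H K 1 ha⟩) :=
    LieModule.isNilpotent_toEnd_of_isNilpotent K (fibreSub H K) (fibreSub H K) _
  refine (mem_engel_iff _ _ _).2 ⟨n, ?_⟩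
  have := congrArg Subtype.val (LinearMap.congr_fun hn ⟨z, hz⟩)
  rwa [LieSubalgebra.coe_ad_pow] at this

end Field

variable [Module.Finite A L] [Module.Projective A L] {a : L}

theorem le_engel_of_isCartanRel (hH : SGA3t2b.IsCartanRel H) (ha : a ∈ H) : H ≤ engel A a := by
  haveI := finite_of_projective_quotient hH.1
  haveI := projective_of_projective_quotient hH.1
  obtain ⟨n, hn⟩ : IsNilpotent (LieAlgebra.ad A H ⟨a, ha⟩) := by
    refine isNilpotent_of_fibres _ fun p => ?_
    haveI := (hH.2 p).1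
    rw [show (LieAlgebra.ad A H ⟨a, ha⟩).baseChange p.asIdeal.ResidueField =
        LieAlgebra.ad p.asIdeal.ResidueField (p.asIdeal.ResidueField ⊗[A] H) ((1 : p.asIdeal.ResidueField) ⊗ₜ[A] ⟨a, ha⟩)
      from (LieModule.toEnd_baseChange (R := A) (A := p.asIdeal.ResidueField) (L := H) (M := H) _).symm]
    exact LieModule.isNilpotent_toEnd_of_isNilpotent _ _ _ _
  intro y hy
  refine (mem_engel_iff _ _ _).2 ⟨n, ?_⟩
  have := congrArg Subtype.val (LinearMap.congr_fun hn ⟨y, hy⟩)
  rwa [LieSubalgebra.coe_ad_pow] at this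

theorem adQ_injective_engel : Function.Injective (adQ (self_mem_engel A a)) := by
  refine (injective_iff_map_eq_zero _).2 fun q hq => ?_
  obtain ⟨z, rfl⟩ := Submodule.mkQ_surjective _ q
  have h1 := adQ_pow_mk (self_mem_engel A a) 1 z
  rw [pow_one, pow_one] at h1
  obtain ⟨n, hn⟩ := (mem_engel_iff _ _ _).1 ((Submodule.Quotient.mk_eq_zero _).1 (h1.symm.trans hq))
  exact (Submodule.Quotient.mk_eq_zero _).2 ((mem_engel_iff _ _ _).2 ⟨n + 1, by rw [pow_succ]; exact hn⟩)

theorem adQ_surjective_iff :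
    Function.Surjective (adQ (self_mem_engel A a)) ↔ ∀ y : L, ∃ z : L, ⁅a, z⁆ - y ∈ engel A a := by
  refine ⟨fun h y => ?_, fun h q => ?_⟩
  · obtain ⟨q, hq⟩ := h ((engel A a).toSubmodule.mkQ y)
    obtain ⟨z, rfl⟩ := Submodule.mkQ_surjective _ q
    exact ⟨z, (Submodule.Quotient.eq _).1 hq⟩
  · obtain ⟨y, rfl⟩ := Submodule.mkQ_surjective _ q
    obtain ⟨z, hz⟩ := h y
    exact ⟨(engel A a).toSubmodule.mkQ z, (Submodule.Quotient.eq _).2 hz⟩

/-- The criterion. -/
theorem isCartanRel_engel (hq : SGA3t2b.IsQuasiRegular A L a)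
    (hp : Module.Projective A (L ⧸ (engel A a).toSubmodule))
    (hs : Function.Surjective (adQ (self_mem_engel A a))) : SGA3t2b.IsCartanRel (engel A a) := by
  refine ⟨hp, fun p => ?_⟩
  let K := p.asIdeal.ResidueField
  have hsurj : Function.Surjective ((adQ (self_mem_engel A a)).baseChange K) := LinearMap.lTensor_surjective K hs
  have h1 : engel K ((1 : K) ⊗ₜ[A] a) ≤ fibreSub (engel A a) K :=
    engel_le_fibreSub K _ (LinearMap.injective_iff_surjective.2 hsurj)
  have h2 : fibreSub (engel A a) K ≤ engel K ((1 : K) ⊗ₜ[A] a) := by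
    rintro _ ⟨x, rfl⟩
    induction x using TensorProduct.induction_on with
    | zero => rw [map_zero]; exact zero_mem _
    | add x y hx hy => rw [map_add]; exact add_mem hx hy
    | tmul c y =>
      obtain ⟨n, hn⟩ := (mem_engel_iff _ _ _).1 y.2
      refine (mem_engel_iff _ _ _).2 ⟨n, ?_⟩
      rw [show LieAlgebra.ad K (K ⊗[A] L) ((1 : K) ⊗ₜ[A] a) = (LieAlgebra.ad A L a).baseChange K from
        LieModule.toEnd_baseChange (R := A) (A := K) (L := L) (M := L) a, ← LinearMap.baseChange_pow,
        LinearMap.baseChange_tmul, LinearMap.baseChange_tmul]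
      exact (congrArg (c ⊗ₜ[A] ·) hn).trans (tmul_zero _ _)
  have heq : fibreSub (engel A a) K = engel K ((1 : K) ⊗ₜ[A] a) := le_antisymm h2 h1
  refine ⟨?_, fun x hx => ?_, ?_⟩
  · haveI := isNilpotent_engel (hq p)
    let f : (K ⊗[A] engel A a) →ₗ⁅ℤ⁆ engel K ((1 : K) ⊗ₜ[A] a) :=
      { toFun := fun x => ⟨subK (engel A a) K x, h2 ⟨x, rfl⟩⟩
        map_add' := fun _ _ => Subtype.ext (map_add _ _ _)
        map_smul' := fun _ _ => Subtype.ext (map_zsmul _ _ _)
        map_lie' := fun {x y} => Subtype.ext (subtype_baseChange_lie _ K x y) }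
    exact Function.Injective.lieAlgebra_isNilpotent (f := f) fun x y h => subK_injective K hp (congrArg Subtype.val h)
  · show x ∈ fibreSub (engel A a) K
    rw [heq, ← normalizer_engel, LieSubalgebra.mem_normalizer_iff]
    intro y hy
    have := hx y ((heq ▸ hy : y ∈ fibreSub (engel A a) K))
    exact h2 this
  · show finrank K (fibreSub (engel A a) K).toSubmodule = _
    rw [heq]
    exact (LieAlgebra.isRegular_iff_finrank_engel_eq_rank K _).1 (hq p)

theorem fibreSub_eq_engel (hH : SGA3t2b.IsCartanRel H) (ha : a ∈ H) (p : PrimeSpectrum A)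
    (hr : LieAlgebra.IsRegular p.asIdeal.ResidueField ((1 : p.asIdeal.ResidueField) ⊗ₜ[A] a)) :
    fibreSub H p.asIdeal.ResidueField = engel p.asIdeal.ResidueField ((1 : p.asIdeal.ResidueField) ⊗ₜ[A] a) := by
  refine LieSubalgebra.toSubmodule_injective (Submodule.eq_of_le_of_finrank_le
    (fibreSub_le_engel_of_isNilpotent _ ha (hH.2 p).1) ?_)
  exact ((LieAlgebra.isRegular_iff_finrank_engel_eq_rank _ _).1 hr).le.trans (hH.2 p).2.2.ge

/-- A relative Cartan subalgebra through a quasi-regular `a` is the Engel subalgebra of `a`. -/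
theorem eq_engel_of_isCartanRel (hq : SGA3t2b.IsQuasiRegular A L a) (hH : SGA3t2b.IsCartanRel H) (ha : a ∈ H) :
    H = engel A a ∧ Function.Surjective (adQ ha) := by
  have hs : Function.Surjective (adQ ha) := surjective_of_fibres _ fun p =>
    (adQ_baseChange_bijective _ ha (fibreSub_eq_engel hH ha p (hq p)).ge (fibreSub_eq_engel hH ha p (hq p)).le).2
  have hi : Function.Injective (adQ ha) := OrzechProperty.injective_of_surjective_endomorphism _ hs
  refine ⟨le_antisymm (le_engel_of_isCartanRel hH ha) fun y hy => ?_, hs⟩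
  obtain ⟨n, hn⟩ := (mem_engel_iff _ _ _).1 hy
  have h1 := adQ_pow_mk ha n y
  rw [hn, map_zero, Module.End.pow_apply] at h1
  refine (Submodule.Quotient.mk_eq_zero _).1 (hi.iterate n (h1.trans ?_))
  rw [← Module.End.pow_apply, map_zero]

section Transfer

variable (Q : Pres A L) (B : Type u) [CommRing B] [Algebra A B]

/-- The characteristic polynomial at the point with coordinates `c`. -/
def Pres.Pc (c : Fin Q.n → B) : Polynomial B := Q.P.map (MvPolynomial.eval₂Hom (algebraMap A B) c)

theorem Pres.isRegular_fibre_iff (c : Fin Q.n → B) (K : Type u) [Field K] [Algebra A K] [Algebra B K]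
    [IsScalarTower A B K] :
    LieAlgebra.IsRegular K ((1 : K) ⊗ₜ[B] Q.pt B c) ↔ algebraMap B K ((Q.Pc B c).coeff (Q.rk K)) ≠ 0 := by
  let e := TensorProduct.AlgebraTensorModule.cancelBaseChange A B K K L
  have he : e ((1 : K) ⊗ₜ[B] Q.pt B c) = Q.pt K fun l => algebraMap B K (c l) := by
    simp only [Pres.pt, tmul_sum, map_sum, e, TensorProduct.AlgebraTensorModule.cancelBaseChange_tmul,
      ← Algebra.algebraMap_eq_smul_one]
  rw [← isRegular_congr e (cancel_lie A B K L), he, Q.isRegular_iff K, Q.rank_eq_rk K, Pres.Pc,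
    ← Polynomial.coeff_map, Polynomial.map_map]
  refine Iff.of_eq ?_
  congr 4
  refine MvPolynomial.ringHom_ext (fun r => ?_) fun i => ?_
  · simp [← IsScalarTower.algebraMap_apply]
  · simp

theorem Pres.isRegular_one_tmul_iff (x : L) (K : Type u) [Field K] [Algebra A K] :
    LieAlgebra.IsRegular K ((1 : K) ⊗ₜ[A] x) ↔ algebraMap A K ((Q.Pc A (Q.i x)).coeff (Q.rk K)) ≠ 0 := by
  rw [Q.one_tmul_eq_pt K x, Q.isRegular_iff K, Q.rank_eq_rk K, Pres.Pc, ← Polynomial.coeff_map, Polynomial.map_map]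
  refine Iff.of_eq ?_
  congr 4
  refine MvPolynomial.ringHom_ext (fun r => ?_) fun i => ?_
  · simp
  · simp

theorem Pres.rk_comap (P : PrimeSpectrum B) :
    Q.rk P.asIdeal.ResidueField = Q.rk (PrimeSpectrum.comap (algebraMap A B) P).asIdeal.ResidueField := by
  refine Q.rk_congr_ker _ _ fun x => ?_
  rw [IsScalarTower.algebraMap_apply A B P.asIdeal.ResidueField, Ideal.algebraMap_residueField_eq_zero,
    Ideal.algebraMap_residueField_eq_zero]
  rfl

/-- Locally constant rank, in terms of `rk`. -/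
theorem Pres.exists_rk_const
    (hC0 : ∀ p : PrimeSpectrum A, ∃ f : A, f ∉ p.asIdeal ∧ ∀ q : PrimeSpectrum A, f ∉ q.asIdeal →
        LieAlgebra.rank q.asIdeal.ResidueField (q.asIdeal.ResidueField ⊗[A] L) =
          LieAlgebra.rank p.asIdeal.ResidueField (p.asIdeal.ResidueField ⊗[A] L)) (p : PrimeSpectrum A) :
    ∃ f : A, f ∉ p.asIdeal ∧ ∀ q : PrimeSpectrum A, f ∉ q.asIdeal →
      Q.rk q.asIdeal.ResidueField = Q.rk p.asIdeal.ResidueField := by
  obtain ⟨f, hf, h⟩ := hC0 p
  refine ⟨f, hf, fun q hq => ?_⟩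
  rw [← Q.rank_eq_rk, ← Q.rank_eq_rk]
  exact h q hq

end Transfer

end Groth.L15.CartanRel
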