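import Groth.Agent.L15.CartanRel.Main
import Mathlib.Algebra.Polynomial.Div
import Mathlib.RingTheory.Nilpotent.Lemmas

/-!
Over a reduced base with locally constant rank every quasi-regular element is regular.
-/

set_option autoImplicit false
set_option linter.style.haveILetI false
universe u

noncomputable section

open TensorProduct Module LieSubalgebra Polynomial

namespace Groth.L15.CartanRel

attribute [local instance 100] LieRing.ofAssociativeRing

section Split

variable {R M : Type*} [CommRing R] [AddCommGroup M] [Module R M]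

theorem mem_of_local (N : Submodule R M) (y : M)
    (h : ∀ m : Ideal R, m.IsMaximal → ∃ t : R, t ∉ m ∧ t • y ∈ N) : y ∈ N := by
  by_contra hy
  let I : Ideal R := N.comap (LinearMap.toSpanSingleton R M y)
  obtain ⟨m, hm, hIm⟩ := Ideal.exists_le_maximal I fun h1 => hy (by
    have : (1 : R) ∈ I := h1 ▸ Submodule.mem_top
    simpa [I] using this)
  obtain ⟨t, ht, hty⟩ := h m hm
  exact ht (hIm (by simpa [I] using hty))

/-- The key local computation: `g ^ d ∘ (t + g ∘ h) = 0` bounds the generalised kernel up to powers of `t`. -/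
theorem pow_smul_eq_zero (g h : End R M) (hc : Commute g h) (t : R) (d : ℕ)
    (hg : ∀ y, (g ^ d) (t • y + g (h y)) = 0) :
    ∀ (n : ℕ) (z : M), (g ^ (d + n)) z = 0 → t ^ n • (g ^ d) z = 0 := by
  intro n
  induction n with
  | zero => intro z hz; simpa using hz
  | succ n ih =>
    intro z hz
    rw [← add_assoc, pow_succ, Module.End.mul_apply] at hz
    have h1 := ih (g z) hz
    have h2 := hg z
    rw [map_add, map_smul] at h2
    have hgh : (g ^ d) (g (h z)) = h ((g ^ d) (g z)) := by
      rw [← Module.End.mul_apply, ← Module.End.mul_apply, ← Module.End.mul_apply, ← pow_succ,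
        (hc.pow_left (d + 1)).eq]
      simp [pow_succ, Module.End.mul_apply]
    have h3 : t • (g ^ d) z = -(h ((g ^ d) (g z))) := by
      rw [← hgh]; exact eq_neg_of_add_eq_zero_left h2
    rw [pow_succ, mul_smul, h3, smul_neg, ← map_smul, h1, map_zero, neg_zero]

end Split

variable {A : Type u} [CommRing A] {L : Type u} [LieRing L] [LieAlgebra A L] [Module.Finite A L]

theorem coeff_smul_eq_zero [IsReduced A] (Q : Pres A L) {f : A} {r0 : ℕ}
    (hf : ∀ q : PrimeSpectrum A, f ∉ q.asIdeal → Q.rk q.asIdeal.ResidueField = r0) {j : ℕ} (hj : j < r0) :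
    MvPolynomial.C f * Q.P.coeff j = 0 := by
  ext m
  rw [MvPolynomial.coeff_C_mul, MvPolynomial.coeff_zero]
  refine IsReduced.eq_zero _ ?_
  rw [← mem_nilradical, nilradical_eq_sInf, Submodule.mem_sInf]
  intro I hI
  have hI' : Ideal.IsPrime I := hI
  let q : PrimeSpectrum A := ⟨I, hI'⟩
  by_cases hq : f ∈ I
  · exact Ideal.mul_mem_right _ I hq
  refine Ideal.mul_mem_left I _ ?_
  show _ ∈ q.asIdeal
  rw [← Ideal.algebraMap_residueField_eq_zero, ← MvPolynomial.coeff_map, ← Polynomial.coeff_map,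
    Polynomial.coeff_eq_zero_of_lt_natTrailingDegree, MvPolynomial.coeff_zero]
  show j < Q.rk q.asIdeal.ResidueField
  rw [hf q hq]
  exact hj

variable [Module.Projective A L]

theorem isRegularRel_of_isReduced [IsReduced A]
    (hC0 : ∀ p : PrimeSpectrum A, ∃ f : A, f ∉ p.asIdeal ∧ ∀ q : PrimeSpectrum A, f ∉ q.asIdeal →
        LieAlgebra.rank q.asIdeal.ResidueField (q.asIdeal.ResidueField ⊗[A] L) =
          LieAlgebra.rank p.asIdeal.ResidueField (p.asIdeal.ResidueField ⊗[A] L))
    (A' : Type u) [CommRing A'] [Algebra A A'] (a' : A' ⊗[A] L)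
    (ha' : SGA3t2b.IsQuasiRegular A' (A' ⊗[A] L) a') :
    SGA3t2b.IsRegularRel A' (A' ⊗[A] L) a' := by
  obtain ⟨Q⟩ := exists_pres A L
  obtain ⟨c, rfl⟩ := Q.exists_pt A' a'
  set a := Q.pt A' c with ha
  set g := LieAlgebra.ad A' (A' ⊗[A] L) a with hg
  have key : ∀ m : Ideal A', m.IsMaximal → ∃ (t : A') (d : ℕ) (h : End A' (A' ⊗[A] L)), t ∉ m ∧ d ≤ Q.n ∧
      Commute g h ∧ ∀ y, (g ^ d) (t • y + g (h y)) = 0 := by
    intro m hm
    let P : PrimeSpectrum A' := ⟨m, hm.isPrime⟩
    set p := PrimeSpectrum.comap (algebraMap A A') P with hp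
    obtain ⟨f, hf, hconst⟩ := Q.exists_rk_const hC0 p
    set r0 := Q.rk p.asIdeal.ResidueField with hr0
    set s := algebraMap A A' f with hs
    have hu : (Q.Pc A' c).coeff r0 ∉ m := by
      have h1 := (Q.isRegular_fibre_iff A' c P.asIdeal.ResidueField).1 (ha' P)
      rw [Q.rk_comap A' P, Ne, Ideal.algebraMap_residueField_eq_zero] at h1
      exact h1
    obtain ⟨T, hT⟩ : X ^ r0 ∣ C s * Q.Pc A' c := by
      refine Polynomial.X_pow_dvd_iff.2 fun j hj => ?_
      have h1 := congrArg (MvPolynomial.eval₂Hom (algebraMap A A') c) (coeff_smul_eq_zero Q hconst hj)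
      rw [map_mul, map_zero, MvPolynomial.eval₂Hom_C] at h1
      rwa [Polynomial.coeff_C_mul, Pres.Pc, Polynomial.coeff_map]
    refine ⟨T.coeff 0, r0, aeval g T.divX, ?_, ?_, Algebra.commute_of_mem_adjoin_self (aeval_mem_adjoin_singleton A' g), fun y => ?_⟩
    · have h2 : T.coeff 0 = s * (Q.Pc A' c).coeff r0 := by
        rw [← Polynomial.coeff_C_mul, hT]
        simpa using (Polynomial.coeff_X_pow_mul T r0 0).symm
      rw [h2]
      exact fun h => (hm.isPrime.mem_or_mem h).elim hf hu
    · exact Q.rk_le _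
    · have h0 : aeval g (C s * Q.Pc A' c) = 0 := by
        rw [map_mul, hg, ha, Pres.Pc, Q.aeval_eq_zero A' c, mul_zero]
      rw [hT, ← Polynomial.X_mul_divX_add T] at h0
      have h1 := LinearMap.congr_fun h0 y
      simp only [map_mul, map_add, map_pow, aeval_X, aeval_C, Module.End.mul_apply, LinearMap.add_apply,
        Module.algebraMap_end_apply, LinearMap.zero_apply] at h1
      rw [add_comm] at h1
      simpa using h1
  have hker : ∀ z, z ∈ engel A' a → (g ^ Q.n) z = 0 := fun z hz => by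
    obtain ⟨n, hn⟩ := (mem_engel_iff _ _ _).1 hz
    refine (Submodule.mem_bot A').1 (mem_of_local ⊥ _ fun m hm => ?_)
    obtain ⟨t, d, h, ht, hd, hc, hgh⟩ := key m hm
    refine ⟨t ^ n, fun h1 => ht (hm.isPrime.mem_of_pow_mem n h1), (Submodule.mem_bot A').2 ?_⟩
    obtain ⟨k, hk⟩ := Nat.exists_eq_add_of_le hd
    rw [hk, add_comm, pow_add, Module.End.mul_apply, ← map_smul,
      pow_smul_eq_zero g h hc t d hgh n z (by rw [pow_add, Module.End.mul_apply, hn, map_zero]), map_zero]
  have hsurj : Function.Surjective (adQ (self_mem_engel A' a)) := fun q => by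
    obtain ⟨y, rfl⟩ := Submodule.mkQ_surjective _ q
    refine mem_of_local (LinearMap.range (adQ (self_mem_engel A' a))) _ fun m hm => ?_
    obtain ⟨t, d, h, ht, hd, hc, hgh⟩ := key m hm
    refine ⟨t, ht, (engel A' a).toSubmodule.mkQ (-(h y)), ?_⟩
    rw [← map_smul]
    refine (Submodule.Quotient.eq _).2 ((mem_engel_iff _ _ _).2 ⟨d, ?_⟩)
    have h1 : g (-(h y)) - t • y = -(t • y + g (h y)) := by rw [map_neg]; abel
    exact (congrArg (g ^ d) h1).trans (by rw [map_neg, hgh, neg_zero])
  have hinj := adQ_injective_engel (A := A') (L := A' ⊗[A] L) (a := a)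
  have hcompl : IsCompl (engel A' a).toSubmodule (LinearMap.range (g ^ Q.n)) := by
    refine ⟨Submodule.disjoint_def.2 ?_, codisjoint_iff_le_sup.2 fun y _ => ?_⟩
    · rintro _ hy ⟨z, rfl⟩
      obtain ⟨k, hk⟩ := (mem_engel_iff _ _ _).1 hy
      exact hker z ((mem_engel_iff _ _ _).2 ⟨k + Q.n, by rw [pow_add, Module.End.mul_apply]; exact hk⟩)
    · obtain ⟨q, hq⟩ := hsurj.iterate Q.n ((engel A' a).toSubmodule.mkQ y)
      obtain ⟨z, rfl⟩ := Submodule.mkQ_surjective _ q
      rw [← Module.End.pow_apply, adQ_pow_mk] at hq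
      refine Submodule.mem_sup.2 ⟨_, (Submodule.Quotient.eq _).1 hq.symm, _, LinearMap.mem_range_self _ z, ?_⟩
      exact sub_add_cancel _ _
  have hproj : Module.Projective A' ((A' ⊗[A] L) ⧸ (engel A' a).toSubmodule) := by
    haveI : Module.Projective A' (LinearMap.range (g ^ Q.n)) :=
      Module.Projective.of_split (LinearMap.range (g ^ Q.n)).subtype (Submodule.projectionOnto _ _ hcompl.symm)
        (LinearMap.ext fun x => by simp)
    exact Module.Projective.of_equiv (Submodule.quotientEquivOfIsCompl _ _ hcompl).symm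
  exact ⟨ha', engel A' a, isCartanRel_engel ha' hproj hsurj, self_mem_engel A' a⟩

end Groth.L15.CartanRel
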